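import Cfsg.Agent.Lib.LyonsOut.Data
import Cfsg.Agent.Lib.Lyons.Index

/-!
Kernel checks of the certificates: the subgroups of the Borel subgroup, their normalisers and the loops which
pin centralisers.
-/

set_option autoImplicit false
set_option maxRecDepth 100000
set_option maxHeartbeats 0
set_option Elab.async false

namespace Cfsg.Agent.LyonsOut

open Cfsg.Agent.CosetCert Cfsg.Agent.Lyons

noncomputable section

/-- A product of listed words. -/
def expW (gs : List (List ℕ)) : List ℕ → List ℕ
  | [] => []
  | i :: l => gs.getD i [] ++ expW gs l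

/-- A power of a word. -/
def powW (g : List ℕ) : ℕ → List ℕ
  | 0 => []
  | n + 1 => g ++ powW g n

/-- Membership certified by a product. -/
def memC (gs : List (List ℕ)) (x ix : List ℕ) : Bool := sameW x (expW gs ix)

/-- The conjugate of `g` by `x`. -/
def conjW (x g : List ℕ) : List ℕ := invL x ++ g ++ x

/-- Two words moving one of three base points differently. -/
def neqW (u v : List ℕ) : Bool :=
  letOK u && letOK v && !(Nat.beq (actW u 0) (actW v 0) && Nat.beq (actW u 11120) (actW v 11120) &&
    Nat.beq (actW u 15658) (actW v 15658))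

/-- Generators of the torus normalised Sylow subgroup with the torus. -/
def bG : List (List ℕ) := uG ++ torG

/-- Generators of the intersection with the point stabiliser. -/
def b0G : List (List ℕ) := q1G ++ torG

/-- Generators of the second parabolic subgroup. -/
def p2G : List (List ℕ) := bG ++ [eW_]

/-- A list of inclusions. -/
def subCheck (gs xs : List (List ℕ)) (cert : List (List ℕ)) : Bool :=
  allBelow (fun i => memC gs (xs.getD i []) (cert.getD i [])) xs.length

/-- A list of normalisations. -/
def normCheck (gs xs : List (List ℕ)) (cert : List (List (List ℕ))) : Bool :=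
  allBelow (fun j => subCheck gs (gs.map (conjW (xs.getD j []))) (cert.getD j [])) xs.length

theorem chain_ok : allBelow (fun i =>
    memC (chainG.take i) (powW (chainG.getD i []) 5) (chainPow.getD i []) &&
      subCheck (chainG.take i) ((chainG.take i).map (conjW (chainG.getD i []))) (chainConj.getD i [])) 6 = true := by
  decide +kernel

theorem uChain_ok : subCheck chainG uG uInChain = true := by decide +kernel
theorem chainU_ok : subCheck uG chainG chainInU = true := by decide +kernel
theorem q1Chain_ok : subCheck (chainG.take 5) q1G q1InChain = true := by decide +kernel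
theorem chainQ1_ok : subCheck q1G (chainG.take 5) chainInQ1 = true := by decide +kernel

theorem normU_ok : normCheck uG torG bNormU = true := by decide +kernel
theorem normQ1_ok : normCheck q1G (kLets.map (fun l => [l]) ++ [[2]]) bNormQ1 = true := by decide +kernel
theorem normQ2_ok : normCheck q2G p2G bNormQ2 = true := by decide +kernel
theorem normA_ok : normCheck aG p2G bNormA = true := by decide +kernel

theorem lists_ok : (decide (phG = chainG.take 4) && decide (aG = chainG.take 3) &&
    decide (q2G = [2] :: phG) && decide (chainG.getD 5 [] = [2]) && decide (chainG.getD 4 [] = cP) &&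
    decide (uG = q1G ++ [[2]]) && torG.any (fun x => decide (x = tG)) &&
    (kLets.map (fun l => [l]) ++ [[2]]).all (fun w => letOK w) && p2G.all (fun w => letOK w) &&
    inKLets (repR.flatten) && inKLets (b0G.flatten) && decide (repR.getD 0 [] = []) &&
    decide (repR.length = 6)) = true := by
  decide +kernel

/-- Conjugation by `z`. -/
def zNormCheck : Bool :=
  q1G.all inKLets && subCheck q1G (q1G.map (sigW FactData.data)) zNormQ1 &&
    allBelow (fun i => inKLets (aK.getD i []) && sameW (aK.getD i []) (aG.getD i []) &&
      memC aG (invL (repR.getD 2 []) ++ sigW FactData.data (aK.getD i []) ++ repR.getD 2 []) (aNormN.getD i []))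
      aG.length

theorem zNorm_ok : zNormCheck = true := by decide +kernel

/-- The six cosets are closed. -/
def repCheck : Bool :=
  allBelow (fun g => allBelow (fun i =>
    Nat.blt ((repClose.getD g []).getD i (0, [])).1 6 &&
      sameW (kLets.getD g 0 :: repR.getD i [])
        (repR.getD ((repClose.getD g []).getD i (0, [])).1 [] ++
          expW b0G ((repClose.getD g []).getD i (0, [])).2)) 6) 16

theorem rep_ok : repCheck = true := by decide +kernel

/-- Any nontrivial coset generates. -/
def genCheck : Bool :=
  allBelow (fun i => Nat.beq i 0 || allBelow (fun j =>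
    sameW (repR.getD j [])
      (expW (bG ++ [repR.getD i []]) ((genRep.getD i []).getD j ([], [])).1 ++
        expW bG ((genRep.getD i []).getD j ([], [])).2)) 6) 6

theorem gen_ok : genCheck = true := by decide +kernel

/-- Insert when absent. -/
def insN (x : ℕ) (l : List ℕ) : List ℕ := bif l.any (fun y => Nat.beq y x) then l else x :: l

/-- The distinct entries. -/
def nubN (l : List ℕ) : List ℕ := List.rec [] (fun x _ r => insN x r) l

/-- A point outside a listed set has six distinct images. -/
def sixAt (W : List (List ℕ)) (L : List ℕ) (p : ℕ) : Bool :=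
  L.any (fun y => Nat.beq y p) || Nat.blt 5 (nubN (W.map fun w => actW w p)).length

/-- One slice of the orbit bound. -/
def sixSlice (W : List (List ℕ)) (L : List ℕ) (s : ℕ) : Bool :=
  allBelow (fun i => force (Nat.add (Nat.mul 3906 s) i) fun p => sixAt (W.take 8) L p || sixAt W L p) 3906

/-- The word lists of the orbit bounds lie in the groups, and the listed sets are as stated. -/
def smallCheck : Bool :=
  decide (small_u = [0, 1, 2, 3, 4]) &&
  six_u.all (fun w => w.all fun l => uG.any fun g => decide (g = [l]) || decide (g = [flipL l])) &&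
  allBelow (fun i => Nat.beq (actW (expW p2G (moveQ.getD i [])) 0) (small_q.getD i 0) &&
    letOK (expW p2G (moveQ.getD i []))) small_q.length &&
  allBelow (fun p => Nat.beq (actW (powW [2] (moveB.getD p 0)) 0) p) 5 &&
  q1G.all (fun g => (List.range 5).all fun p => Nat.beq (actW g p) p) &&
  uG.all (fun g => (List.range 5).all fun p => Nat.blt (actW g p) 5 && Nat.blt (actW (invL g) p) 5) &&
  uG.all (fun g => small_q.all fun p =>
    small_q.any (fun y => Nat.beq y (actW g p)) && small_q.any (fun y => Nat.beq y (actW (invL g) p))) &&
  q2G.all (fun g => small_q.all fun p => Nat.beq (actW g p / 5) (p / 5) && Nat.beq (actW (invL g) p / 5) (p / 5)) &&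
  uG.any (fun g => small_q.any fun p => !Nat.beq (actW g p / 5) (p / 5)) &&
  allBelow (fun i => small_q.any (fun y => Nat.beq y (negU.getD i (0, 0)).2) &&
    !small_q.any (fun y => Nat.beq y (actW (repR.getD (Nat.add i 1) [] ++ uG.getD (negU.getD i (0, 0)).1 [] ++
      invL (repR.getD (Nat.add i 1) [])) (negU.getD i (0, 0)).2))) 5 &&
  allBelow (fun i => small_q.any (fun y => Nat.beq y (negQ.getD i (0, 0)).2) &&
    !Nat.beq (actW (repR.getD (Nat.add i 1) [] ++ q2G.getD (negQ.getD i (0, 0)).1 [] ++
      invL (repR.getD (Nat.add i 1) [])) (negQ.getD i (0, 0)).2 / 5) ((negQ.getD i (0, 0)).2 / 5)) 5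

theorem small_ok : smallCheck = true := by decide +kernel

/-- The listed orbit points increase. -/
def incrCheck : List ℕ → Bool
  | [] => true
  | [_] => true
  | x :: y :: l => Nat.blt x y && incrCheck (y :: l)

theorem q1Pts_ok : (Nat.beq q1Pts.length 626 && q1Pts.all (fun ix => letOK (expW q1G ix)) &&
    incrCheck (q1Pts.map fun ix => actW (expW q1G ix) 5)) = true := by decide +kernel

/-- The commutator certificates. -/
def commCheck : Bool :=
  letOK wC && sameW (powW wC 5) [] && memC q1G wC [4] &&
  allBelow (fun i => sameW (wC ++ q1G.getD i []) (q1G.getD i [] ++ wC) && allBelow (fun j =>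
    memC [wC] (invL (q1G.getD i []) ++ invL (q1G.getD j []) ++ q1G.getD i [] ++ q1G.getD j [])
      ((q1Comm.getD i []).getD j [])) q1G.length) q1G.length

theorem comm_ok : commCheck = true := by decide +kernel

/-- A commutator word. -/
def cmW (x y : List ℕ) : List ℕ := invL x ++ invL y ++ x ++ y

/-- The two commutators of the second radical. -/
def comm2Check : Bool :=
  Nat.blt q2Comm.1.1 5 && Nat.blt q2Comm.1.2 5 && Nat.blt q2Comm.2.1 5 && Nat.blt q2Comm.2.2 5 &&
  neqW (cmW (q2G.getD q2Comm.1.1 []) (q2G.getD q2Comm.1.2 [])) [] &&
  allBelow (fun a => neqW (powW (cmW (q2G.getD q2Comm.1.1 []) (q2G.getD q2Comm.1.2 [])) a)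
    (cmW (q2G.getD q2Comm.2.1 []) (q2G.getD q2Comm.2.2 []))) 5

theorem comm2_ok : comm2Check = true := by decide +kernel

/-- The derived subgroup and the torus eigenvalues. -/
def eigenCheck : Bool :=
  allBelow (fun i => sameW (phG.getD i [])
    ((phComm.getD i []).flatMap fun p => cmW (uG.getD p.1 []) (uG.getD p.2 []))) phG.length &&
  subCheck phG (phG.map (conjW tG)) tConjPh &&
  sameW (conjW tG [2]) (expW phG lamB.2 ++ powW [2] lamB.1) &&
  sameW (conjW tG cP) (expW phG lamC.2 ++ powW cP lamC.1) &&
  !Nat.beq (Nat.mod lamB.1 5) (Nat.mod lamC.1 5) && Nat.blt lamB.1 5 && Nat.blt lamC.1 5 && neqW [16] []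

theorem eigen_ok : eigenCheck = true := by decide +kernel

/-- Products landing in a nontrivial coset. -/
def badCheck : Bool :=
  decide (badTwo.map (fun b => b.1) = [1, 3, 4, 5]) &&
  badTwo.all (fun b => !Nat.beq b.2.2.1 0 && Nat.blt b.2.2.1 6 &&
    inKLets (repR.getD b.1 [] ++ expW b0G b.2.1) &&
    memC bG (invL (repR.getD b.2.2.1 []) ++
      (wU ++ sigW FactData.data (repR.getD b.1 [] ++ expW b0G b.2.1) ++ repR.getD b.1 [])) b.2.2.2) &&
  match runMoves FactData.data 95 badMoves ⟨[], 0, [], []⟩ with
  | some s => Nat.beq s.k 0 && !Nat.beq badThree.2.2.1 0 && Nat.blt badThree.2.2.1 6 &&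
      itemsEq s.W (headW [expW bG badThree.1, expW bG badThree.2.1, []]) &&
      memC bG (invL (repR.getD badThree.2.2.1 []) ++ (s.A ++ s.u)) badThree.2.2.2
  | none => false

theorem bad_ok : badCheck = true := by decide +kernel

/-- Membership in the long orbit of the point stabiliser. -/
def inOrb (p : ℕ) : Bool :=
  Nat.blt (OrbData.kOne.idx.get p) OrbData.kOne.n && Nat.beq (OrbData.kOne.pts.get (OrbData.kOne.idx.get p)) p

/-- The unique point of the orbit fixed by the loops. -/
def loopAt (ws : List (List ℕ)) (t p : ℕ) : Bool :=
  Nat.beq p t || !inOrb p || ws.any fun w => !Nat.beq (actW w p) p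

/-- The loops and the final contradiction. -/
def centCheck : Bool :=
  inOrb 11120 && inOrb 15658 &&
  loopI1.all (fun w => inKLets w && Nat.beq (actW w 11120) 11120) &&
  loopI2.all (fun w => inKLets w && Nat.beq (actW w 15658) 15658) &&
  loopS1.all (fun w => inKLets w && Nat.beq (actW (sigW FactData.data w) 11120) 11120) &&
  kLets.all (fun l => Nat.beq (actW (FactData.data.sig.get l) 0) 0 && letOK (FactData.data.sig.get l)) &&
  inKLets sigTo && Nat.beq (actW (sigW FactData.data sigTo) 11120) 15658 &&
  Nat.beq (actW sigTo 6383) 18959 &&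
  inKLets gZero && Nat.beq (actW gZero 11120) 6383 &&
  orbTwo.any (fun y => Nat.beq y 15658) && !orbTwo.any (fun y => Nat.beq y (actW (invL gZero) 18959)) &&
  OrbData.kTwo.ws.all fun g => orbTwo.all fun p =>
    orbTwo.any (fun y => Nat.beq y (actW g p)) && orbTwo.any (fun y => Nat.beq y (actW (invL g) p))

theorem cent_ok : centCheck = true := by decide +kernel

/-- All generators of the group of order 5859000000 come from the two parabolic subgroups. -/
theorem hGen_ok : (sameW [6] dWord && dWord.all fun l => !Nat.beq (l / 2) 3) = true := by decide +kernel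

end

end Cfsg.Agent.LyonsOut
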