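import Cfsg.Agent.Lib.Lyons.Table

/-! Words certifying that automorphisms of the Lyons group fix `⟨a, b, c, d⟩`. -/

set_option autoImplicit false
set_option maxRecDepth 100000

namespace Cfsg.Agent.LyonsOut

noncomputable section

/-- certificate -/
def chainG : List (List ℕ) :=
  [[16],
  [5, 12],
  [15, 4],
  [12, 15, 5, 15],
  [10],
  [2]]

/-- certificate -/
def chainConj : List (List (List ℕ)) :=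
  [[],
  [[0]],
  [[0], [1]],
  [[0], [0, 1], [0, 2]],
  [[0], [1], [0, 2], [3]],
  [[0], [1, 1, 2, 2, 2, 2], [1], [1, 3, 2, 2], [3, 4]]]

/-- certificate -/
def chainPow : List (List ℕ) :=
  [[],
  [],
  [],
  [],
  [],
  []]

/-- certificate -/
def q1G : List (List ℕ) :=
  [[4],
  [10],
  [12],
  [14],
  [16]]

/-- certificate -/
def q2G : List (List ℕ) :=
  [[2],
  [16],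
  [5, 12],
  [15, 4],
  [12, 15, 5, 15]]

/-- certificate -/
def uG : List (List ℕ) :=
  [[4],
  [10],
  [12],
  [14],
  [16],
  [2]]

/-- certificate -/
def torG : List (List ℕ) :=
  [[0, 0],
  [0, 21, 19]]

/-- certificate -/
def aG : List (List ℕ) :=
  [[16],
  [5, 12],
  [15, 4]]

/-- certificate -/
def phG : List (List ℕ) :=
  [[16],
  [5, 12],
  [15, 4],
  [12, 15, 5, 15]]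

/-- certificate -/
def cP : List ℕ :=
  [10]

/-- certificate -/
def eW_ : List ℕ :=
  [8]

/-- certificate -/
def uInChain : List (List ℕ) :=
  [[1, 1, 3, 1, 3, 2],
  [4],
  [1, 1, 1, 1, 2, 3, 3],
  [1, 1, 3, 1, 3],
  [0],
  [5]]

/-- certificate -/
def chainInU : List (List ℕ) :=
  [[4],
  [0, 0, 0, 0, 2],
  [3, 3, 3, 3, 0],
  [0, 0, 0, 0, 3, 2, 3, 3],
  [1],
  [5]]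

/-- certificate -/
def q1InChain : List (List ℕ) :=
  [[1, 1, 3, 1, 3, 2],
  [4],
  [1, 1, 1, 1, 2, 3, 3],
  [1, 1, 3, 1, 3],
  [0]]

/-- certificate -/
def chainInQ1 : List (List ℕ) :=
  [[4],
  [0, 0, 0, 0, 2],
  [3, 3, 3, 3, 0],
  [0, 0, 0, 0, 3, 2, 3, 3],
  [1]]

/-- certificate -/
def phComm : List (List (ℕ × ℕ)) :=
  [[(0, 1)],
  [(0, 5)],
  [(3, 5)],
  [(1, 5)]]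

/-- certificate -/
def tG : List ℕ :=
  [0,
  0]

/-- certificate -/
def lamB : ℕ × List ℕ :=
  (1, [])

/-- certificate -/
def lamC : ℕ × List ℕ :=
  (3, [])

/-- certificate -/
def tConjPh : List (List ℕ) :=
  [[0, 0, 0, 0],
  [0, 1, 1, 1],
  [0, 2, 2, 2],
  [3, 3, 3]]

/-- certificate -/
def bNormU : List (List (List ℕ)) :=
  [[[0, 0, 0], [1, 1, 1], [2, 2, 2], [3, 3, 3], [4, 4, 4, 4], [5]],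
  [[0, 0, 0, 0], [0, 1, 1, 2, 1, 2, 2], [0, 0, 0, 2, 2, 2, 2, 3, 3], [0, 0, 0, 2, 3, 3, 3, 2, 3], [4, 4, 4], [5, 5, 5]]]

/-- certificate -/
def bNormQ1 : List (List (List ℕ)) :=
  [[[1], [0, 0, 0], [0, 2, 2, 3, 2], [0, 0, 1, 1, 1, 1, 2, 2, 2, 3, 3, 2], [4, 4]],
  [[1, 1], [0], [0, 3, 0, 2, 3], [0, 0, 0, 0, 1, 1, 1, 2, 2, 3, 3, 3, 2, 3], [4, 4, 4]],
  [[0], [1, 4, 4, 4, 4], [2, 4, 4], [3, 4, 4, 4], [4]],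
  [[0], [1, 4], [2, 4, 4, 4], [3, 4, 4], [4]],
  [[0, 4], [1], [2, 4], [3], [4]],
  [[0, 4, 4, 4, 4], [1], [2, 4, 4, 4, 4], [3], [4]],
  [[0, 4, 4, 4], [1, 4, 4, 4, 4], [2], [3, 4], [4]],
  [[0, 4, 4], [1, 4], [2], [3, 4, 4, 4, 4], [4]],
  [[0, 4, 4], [1], [2, 4, 4, 4, 4], [3], [4]],
  [[0, 4, 4, 4], [1], [2, 4], [3], [4]],
  [[0], [1], [2], [3], [4]],
  [[0], [1], [2], [3], [4]],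
  [[3, 3, 2, 3, 3], [0, 0, 1, 2, 2, 3, 2, 3, 3, 2], [0, 1, 2, 2, 3, 3], [0, 0, 0, 1, 3, 3, 2, 2], [4, 4]],
  [[2, 3, 3, 3, 2], [0, 0, 0, 0, 1, 1, 2, 2, 3, 2], [0, 0, 1, 1, 2, 2, 2, 2, 3, 3, 3, 3], [0, 1, 1, 2, 2, 2, 3, 2, 3, 3, 3], [4, 4, 4]],
  [[0, 0, 0, 0, 1, 2, 2, 2, 3, 3, 3, 2, 3], [2, 3, 3, 3, 2], [0, 0, 0, 0, 1, 1, 1, 1, 2, 2, 2, 3, 3, 2], [0, 0, 0, 0, 2, 2, 2, 3, 3, 2], [4, 4]],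
  [[0, 0, 0, 1, 1, 2, 2, 3, 3, 2, 3], [2, 2, 3, 2, 2], [0, 0, 0, 1, 1, 1, 2, 2, 3, 3, 3, 2, 3], [0, 0, 0, 2, 2, 3, 3, 3, 2, 3], [4, 4, 4]],
  [[2], [0, 0, 0, 0, 1, 3, 3, 2, 3], [0, 0, 3, 2, 2, 2], [0], [4]]]

/-- certificate -/
def bNormQ2 : List (List (List ℕ)) :=
  [[[0, 2, 2, 2, 2], [1], [1, 1, 2], [1, 1, 3], [1, 4]],
  [[0, 4, 4, 4, 4], [1], [2], [1, 3], [4]],
  [[0, 2, 2, 2, 3], [1], [1, 1, 2], [1, 1, 3], [4]],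
  [[0, 3, 3, 3, 3], [1], [1, 1, 2], [1, 1, 3], [1, 1, 4]],
  [[0], [1], [2], [3], [4]],
  [[0], [1], [0, 0, 0, 0, 2, 0], [2], [2, 4, 3, 3]],
  [[0], [1, 1, 1, 1], [1, 2, 2, 2], [1, 3, 3, 3], [4, 4, 4]],
  [[0, 0, 0], [1, 1, 1], [0, 0, 0, 0, 1, 2, 2, 0], [0, 0, 0, 0, 1, 2, 0, 2], [2, 3, 3, 4, 4, 3, 4, 4]],
  [[1, 2, 2, 2, 4], [2, 2, 2, 2, 3], [2, 2, 2, 2], [1, 2, 2, 2, 2], [0, 2, 2, 3]]]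

/-- certificate -/
def bNormA : List (List (List ℕ)) :=
  [[[0], [0, 0, 1], [0, 0, 2]],
  [[0], [1], [0, 2]],
  [[0], [0, 0, 1], [0, 0, 2]],
  [[0], [0, 0, 1], [0, 0, 2]],
  [[0], [1], [2]],
  [[0], [1, 1, 2, 2, 2, 2], [1]],
  [[0, 0, 0, 0], [0, 1, 1, 1], [0, 2, 2, 2]],
  [[0, 0, 0], [0, 1, 1, 1, 1, 2, 2, 2], [0, 1, 1, 1, 2, 2, 2, 2]],
  [[1, 1, 1, 1, 2], [1, 1, 1, 1], [0, 1, 1, 1, 1]]]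

/-- certificate -/
def zNormQ1 : List (List ℕ) :=
  [[0, 0, 2, 2, 2, 3, 3, 3, 2, 3],
  [0, 0, 0, 1, 1, 3, 2, 3, 3, 2],
  [1, 3, 3],
  [0, 1, 1, 1, 1, 2, 2, 2, 3],
  [4, 4]]

/-- certificate -/
def aK : List (List ℕ) :=
  [[16],
  [5, 12],
  [15, 4]]

/-- certificate -/
def aNormN : List (List ℕ) :=
  [[0, 0, 0, 0],
  [0, 0, 2, 2],
  [0, 1, 1, 1]]

/-- certificate -/
def repR : List (List ℕ) :=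
  [[],
  [0],
  [18],
  [20],
  [18, 0],
  [18, 20]]

/-- certificate -/
def repClose : List (List (ℕ × List ℕ)) :=
  [[(1, []), (0, [5]), (3, [5, 5, 5, 6]), (2, [5, 5, 6, 6, 6]), (5, [5, 5, 5, 6]), (4, [5, 5, 6, 6, 6])],
  [(1, [5, 5, 5]), (0, []), (3, [5, 5, 6]), (2, [5, 6, 6, 6]), (5, [5, 5, 6]), (4, [5, 6, 6, 6])],
  [(0, [0]), (1, [1]), (2, [3, 3, 2, 3, 3]), (3, [1, 5, 5, 2, 0, 3, 5, 5]), (4, [1, 5, 5, 2, 0, 3, 5, 5]), (5, [1, 1, 1, 1])],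
  [(0, [0, 0, 0, 0]), (1, [1, 1, 1, 1]), (2, [2, 2, 3, 2, 2]), (3, [6, 6, 1, 6, 6]), (4, [6, 6, 1, 6, 6]), (5, [1])],
  [(0, [1]), (1, [0, 0, 0]), (2, [6, 1, 1, 1, 6, 6, 6]), (3, [2, 3, 3, 3, 2]), (4, [6, 6, 6, 1, 1, 1, 6]), (5, [6, 6, 6, 1, 6])],
  [(0, [1, 1, 1, 1]), (1, [0, 0]), (2, [6, 1, 1, 6, 6, 6]), (3, [2, 3, 2, 3, 2]), (4, [0, 1, 0, 2]), (5, [0, 0, 0, 0, 1, 2, 1, 2])],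
  [(0, [2]), (1, [0, 2, 2, 3, 2]), (2, [0, 1, 2, 2, 3, 3]), (3, [5, 3, 5, 0, 1, 2, 5, 5]), (4, [1, 1, 6, 1, 6, 3, 6, 6]), (5, [1, 1, 2, 2, 1, 1])],
  [(0, [2, 2, 2, 2]), (1, [0, 6, 2, 6, 6, 4, 6]), (2, [5, 5, 0, 1, 5, 2, 3, 5]), (3, [0, 1, 3, 3, 2, 3]), (4, [0, 1, 3, 3, 3, 3, 2]), (5, [2, 2, 2, 1, 4])],
  [(0, [3]), (1, [1, 1, 3, 6, 6, 1, 6, 1, 6]), (2, [0, 0, 0, 1, 3, 3, 2, 2]), (3, [0, 6, 3, 4, 6, 6, 6]), (4, [1, 3, 5, 5, 2, 0, 5, 5]), (5, [0, 0, 1, 3, 0, 3, 3])],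
  [(0, [3, 3, 3, 3]), (1, [0, 0, 0, 1, 3, 3, 2, 3]), (2, [5, 0, 5, 1, 5, 3, 2, 5]), (3, [0, 3, 3, 2, 3]), (4, [0, 2, 5, 5, 1, 3, 5, 5]), (5, [5, 3, 0, 5, 1, 5, 5])],
  [(0, [4]), (1, [4, 4]), (2, [4, 4]), (3, [4, 4]), (4, [4, 4, 4, 4]), (5, [4, 4, 4, 4])],
  [(0, [4, 4, 4, 4]), (1, [4, 4, 4]), (2, [4, 4, 4]), (3, [4, 4, 4]), (4, [4]), (5, [4])],
  [(2, []), (4, []), (0, [5]), (5, []), (1, [5]), (3, [5])],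
  [(2, [5, 5, 5]), (4, [5, 5, 5]), (0, []), (5, [5, 5, 5]), (1, []), (3, [])],
  [(3, []), (2, [6, 6, 6]), (1, [5, 6]), (0, [5]), (5, [6, 6, 6]), (4, [5, 6])],
  [(3, [5, 5, 5]), (2, [5, 5, 5, 6, 6, 6]), (1, [6]), (0, []), (5, [5, 5, 5, 6, 6, 6]), (4, [6])]]

/-- certificate -/
def genRep : List (List (List ℕ × List ℕ)) :=
  [[],
  [([], []), ([8], []), ([5, 8], [5, 5, 5, 5]), ([5, 5, 8], [5, 5, 5]), ([7, 8], [7, 7]), ([8, 7, 8], [6, 7])],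
  [([], []), ([7, 5, 5, 8], [6, 6, 6, 7, 5]), ([8], []), ([5, 8], [5, 5, 5, 5]), ([5, 5, 5, 8], [5, 6, 7, 5]), ([5, 5, 8], [6, 6, 6, 7, 5])],
  [([], []), ([7, 5, 8], [5, 6, 6, 6, 7, 5]), ([5, 7, 5, 8], [5, 6, 6, 6, 7]), ([8], []), ([5, 5, 8], [6, 7, 5, 5]), ([5, 8], [5, 6, 6, 6, 7, 5])],
  [([], []), ([5, 8], [6, 6, 6, 7, 7, 5, 7]), ([5, 5, 8], [5, 6, 6, 6, 7, 7, 7]), ([7, 8], [6, 6]), ([8], []), ([5, 7, 8], [5, 6, 7, 5])],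
  [([], []), ([7, 8], []), ([5, 7, 8], [5, 5, 5, 5]), ([7, 5, 8], [5, 5, 5]), ([5, 8], [5, 5, 5, 6, 6]), ([8], [])]]

/-- certificate -/
def six_u : List (List ℕ) :=
  [[],
  [4],
  [10],
  [12],
  [14],
  [16],
  [2],
  [4, 4],
  [10, 10],
  [12, 12],
  [14, 14],
  [16, 16],
  [2, 2],
  [4, 4, 4],
  [10, 10, 10],
  [12, 12, 12],
  [14, 14, 14],
  [16, 16, 16],
  [2, 2, 2]]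

/-- certificate -/
def small_u : List ℕ :=
  [0,
  1,
  2,
  3,
  4]

/-- certificate -/
def six_q : List (List ℕ) :=
  [[],
  [2],
  [16],
  [5, 12],
  [15, 4],
  [12, 15, 5, 15],
  [2, 2],
  [16, 16],
  [5, 12, 5, 12],
  [15, 4, 15, 4],
  [12, 15, 5, 15, 12, 15, 5, 15],
  [2, 2, 2],
  [16, 16, 16],
  [5, 12, 5, 12, 5, 12],
  [15, 4, 15, 4, 15, 4],
  [12, 15, 5, 15, 12, 15, 5, 15, 12, 15, 5, 15]]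

/-- certificate -/
def small_q : List ℕ :=
  [0,
  1,
  2,
  3,
  4,
  10,
  11,
  12,
  13,
  14,
  80,
  81,
  82,
  83,
  84,
  85,
  86,
  87,
  88,
  89,
  935,
  936,
  937,
  938,
  939,
  965,
  966,
  967,
  968,
  969]

/-- certificate -/
def moveQ : List (List ℕ) :=
  [[],
  [5],
  [5, 7, 5],
  [5, 5],
  [5, 7],
  [8],
  [5, 8],
  [8, 7],
  [8, 0],
  [5, 7, 8],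
  [8, 1],
  [5, 8, 1],
  [8, 7, 1],
  [8, 0, 1],
  [5, 7, 8, 1],
  [8, 0, 1, 7, 1],
  [8, 1, 6, 1],
  [8, 1, 6, 6],
  [8, 1, 6, 7],
  [5, 8, 1, 6, 6],
  [8, 1, 1],
  [5, 8, 1, 1],
  [8, 1, 6, 8],
  [5, 7, 8, 1, 1],
  [8, 0, 1, 1],
  [8, 0, 1, 7],
  [8, 1, 6],
  [5, 8, 1, 6],
  [8, 1, 7],
  [8, 1, 6, 0]]

/-- certificate -/
def moveB : List ℕ :=
  [0,
  1,
  4,
  2,
  3]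

/-- certificate -/
def negU : List (ℕ × ℕ) :=
  [(5, 10),
  (5, 10),
  (5, 10),
  (5, 10),
  (5, 10)]

/-- certificate -/
def negQ : List (ℕ × ℕ) :=
  [(0, 10),
  (0, 10),
  (0, 10),
  (0, 10),
  (0, 10)]

/-- certificate -/
def q1Pts : List (List ℕ) :=
  [
  [],
  [0],
  [0, 0, 0, 0],
  [1],
  [1, 1, 1, 1],
  [2],
  [2, 2, 2, 2],
  [3],
  [3, 3, 3, 3],
  [4],
  [4, 4, 4, 4],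
  [1, 1],
  [0, 0],
  [0, 1],
  [0, 1, 1, 1, 1],
  [0, 2],
  [0, 2, 2, 2, 2],
  [0, 3],
  [0, 3, 3, 3, 3],
  [0, 4],
  [0, 4, 4, 4, 4],
  [3, 3, 2, 3, 3],
  [2, 3, 3, 3, 2],
  [1, 1, 1],
  [0, 0, 0],
  [0, 0, 0, 0, 1],
  [0, 0, 0, 0, 2],
  [0, 0, 0, 0, 3],
  [0, 0, 0, 0, 4],
  [2, 2, 3, 2, 2],
  [2, 3, 2, 3, 2],
  [0, 0, 3, 2, 2, 2],
  [1, 0],
  [1, 0, 0, 0, 0],
  [1, 2],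
  [1, 2, 2, 2, 2],
  [1, 3],
  [1, 3, 3, 3, 3],
  [1, 4],
  [1, 4, 4, 4, 4],
  [1, 1, 1, 1, 0],
  [1, 1, 1, 1, 2],
  [1, 1, 1, 1, 3],
  [1, 1, 1, 1, 4],
  [0, 2, 2, 3, 2],
  [0, 3, 0, 2, 3],
  [2, 0],
  [2, 0, 0, 0, 0],
  [2, 1],
  [2, 1, 1, 1, 1],
  [2, 2],
  [2, 3],
  [2, 3, 3, 3, 3],
  [2, 4],
  [2, 4, 4, 4, 4],
  [0, 1, 2, 2, 3, 3],
  [2, 2, 2, 2, 0],
  [2, 2, 2, 2, 1],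
  [2, 2, 2],
  [2, 2, 2, 2, 3],
  [2, 2, 2, 2, 4],
  [0, 1, 3, 3, 2, 3],
  [0, 0, 2, 3, 3, 3],
  [3, 0],
  [3, 0, 0, 0, 0],
  [3, 2],
  [3, 2, 2, 2, 2],
  [3, 3],
  [3, 4],
  [3, 4, 4, 4, 4],
  [0, 1, 2, 3, 2, 1],
  [3, 3, 3, 3, 0],
  [3, 3, 3, 3, 2],
  [3, 3, 3],
  [3, 3, 3, 3, 4],
  [0, 3, 3, 2, 3],
  [0, 2, 0, 3, 2],
  [4, 4],
  [4, 4, 4],
  [0, 2, 3, 3, 2],
  [1, 1, 0],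
  [0, 0, 1, 0, 1, 0],
  [1, 1, 2],
  [1, 1, 2, 2, 2, 2],
  [1, 1, 3],
  [1, 1, 3, 3, 3, 3],
  [1, 1, 4],
  [1, 1, 4, 4, 4, 4],
  [0, 0, 1],
  [0, 0, 1, 1, 1, 1],
  [0, 0, 2],
  [0, 0, 2, 2, 2, 2],
  [0, 0, 3],
  [0, 0, 3, 3, 3, 3],
  [0, 0, 4],
  [0, 0, 4, 4, 4, 4],
  [0, 2, 2, 0],
  [1, 1, 2, 1, 2, 2],
  [1, 2, 1, 2],
  [1, 0, 0, 0],
  [0, 1, 0],
  [0, 1, 1],
  [0, 1, 2],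
  [0, 1, 2, 2, 2, 2],
  [0, 1, 3],
  [0, 1, 3, 3, 3, 3],
  [0, 1, 4],
  [0, 3, 3, 0, 1],
  [1, 0, 0],
  [0, 1, 1, 1, 1, 0],
  [0, 1, 1, 1],
  [0, 1, 1, 1, 1, 2],
  [0, 1, 1, 1, 1, 3],
  [1, 0, 1, 1, 1],
  [0, 1, 2, 2, 2, 3],
  [0, 2, 0],
  [2, 4, 4, 4],
  [0, 2, 1],
  [0, 2, 1, 1, 1, 1],
  [0, 2, 2],
  [0, 2, 3],
  [0, 2, 3, 3, 3, 3],
  [0, 2, 4],
  [2, 0, 4, 4],
  [0, 3, 3, 2],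
  [0, 2, 2, 2, 2, 0],
  [2, 2, 2, 2, 4, 4],
  [0, 3, 3, 3, 2],
  [0, 2, 2, 2, 2, 1],
  [0, 2, 2, 2],
  [0, 2, 2, 2, 2, 3],
  [2, 2, 2, 0, 2],
  [2, 2, 0, 2, 2],
  [1, 1, 3, 3, 4, 4],
  [0, 3, 0],
  [3, 4, 4],
  [1, 1, 3, 2],
  [0, 3, 2],
  [0, 3, 2, 2, 2, 2],
  [0, 3, 3],
  [0, 3, 4],
  [3, 0, 4],
  [0, 1, 3, 3, 2, 1],
  [0, 3, 3, 3, 3, 0],
  [0, 2, 2, 2, 3],
  [0, 3, 3, 3, 3, 2],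
  [0, 3, 3, 3],
  [3, 3, 0, 3, 3],
  [3, 3, 3, 0, 3],
  [1, 3, 3, 4, 4, 4],
  [1, 4, 4],
  [1, 1, 4, 4, 4],
  [0, 1, 3, 2, 2, 1],
  [0, 4, 4],
  [2, 3, 2, 3, 3],
  [1, 4, 4, 4],
  [1, 1, 4, 4],
  [0, 4, 4, 4],
  [2, 2, 3, 3, 3],
  [0, 3, 2, 3, 3, 3],
  [1, 3, 3, 3, 2, 3],
  [2, 3, 2, 3, 3, 3],
  [2, 4, 4],
  [3, 3, 2, 3],
  [3, 3, 3, 2, 3],
  [3, 2, 3, 3, 3],
  [0, 2, 3, 2, 3, 3],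
  [1, 2, 2, 3, 3, 3],
  [2, 2, 3, 2, 3, 3],
  [2, 3, 3, 3],
  [2, 3, 3, 3, 2, 3],
  [3, 2, 3, 2],
  [3, 2, 3, 3, 2],
  [2, 3, 3, 2, 3],
  [1, 3, 3, 2, 3],
  [3, 2, 1, 4, 4],
  [1, 2, 3, 2, 1],
  [0, 1, 0, 2],
  [1, 1, 1, 0],
  [1, 1, 1, 2],
  [1, 1, 1, 3],
  [1, 1, 1, 4],
  [0, 0, 0, 1],
  [0, 0, 0, 2],
  [0, 0, 0, 3],
  [0, 0, 0, 4],
  [0, 0, 0, 1, 4],
  [1, 3, 2, 2, 2],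
  [0, 0, 0, 0, 1, 1],
  [0, 0, 0, 0, 1, 2],
  [0, 0, 0, 0, 1, 3],
  [0, 0, 0, 1, 0],
  [0, 1, 1, 1, 0, 1],
  [1, 1, 1, 1, 3, 3],
  [1, 0, 1, 1, 3],
  [0, 2, 2, 0, 3],
  [0, 0, 2, 0, 4],
  [0, 0, 0, 0, 2, 1],
  [0, 0, 0, 0, 2, 2],
  [0, 0, 0, 0, 2, 3],
  [0, 2, 0, 0, 0],
  [0, 0, 2, 0, 0],
  [0, 3, 3, 3, 2, 1],
  [1, 3, 4, 4, 4],
  [0, 2, 3, 3, 0],
  [3, 4, 4, 4],
  [0, 3, 0, 0, 4],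
  [0, 0, 0, 0, 3, 2],
  [0, 0, 0, 0, 3, 3],
  [0, 0, 3, 0, 0],
  [0, 3, 0, 0, 0],
  [0, 1, 1, 2, 2, 3],
  [1, 1, 1, 3, 4, 4],
  [0, 2, 2, 3],
  [3, 3, 3, 3, 4, 4],
  [1, 1, 1, 1, 4, 4],
  [1, 1, 1, 4, 4, 4],
  [0, 0, 0, 0, 4, 4],
  [2, 2, 3, 2, 3],
  [1, 1, 1, 4, 4],
  [2, 2, 2, 3, 3],
  [0, 2, 3, 2, 2, 2],
  [1, 2, 2, 2, 3, 2],
  [2, 2, 3, 2],
  [2, 2, 2, 3, 3, 2],
  [2, 3, 2, 2, 2],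
  [2, 2, 2, 3, 2],
  [0, 2, 2, 2, 3, 3],
  [1, 2, 2, 3, 2, 3],
  [2, 2, 2, 2, 3, 3],
  [2, 3, 2, 3],
  [2, 2, 3, 3, 3, 2],
  [3, 2, 2, 2],
  [2, 3, 3, 2, 2],
  [2, 2, 3, 3, 2],
  [1, 1, 1, 3, 2, 1],
  [3, 0, 2],
  [0, 1, 1, 3, 2, 1],
  [1, 1, 1, 0, 1, 3],
  [0, 1, 2, 1, 1, 1],
  [1, 1, 2, 2, 3, 2],
  [1, 2, 1],
  [2, 2, 2, 1, 4],
  [1, 1, 2, 2, 1, 1],
  [2, 0, 3, 2, 2],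
  [3, 0, 2, 3, 3],
  [0, 2, 2, 0, 0],
  [0, 0, 3, 2, 2],
  [2, 0, 2, 2, 0],
  [0, 2, 0, 3, 2, 2],
  [1, 2, 3, 3, 2],
  [0, 3, 3, 2, 2],
  [0, 0, 0, 3, 2],
  [0, 0, 2, 2, 3],
  [3, 3, 3, 4],
  [1, 3, 3],
  [0, 0, 1, 4],
  [1, 1, 0, 3],
  [1, 0, 1],
  [1, 0, 2],
  [1, 0, 3],
  [0, 1, 4, 4, 4],
  [0, 1, 0, 3, 3],
  [0, 0, 2, 1, 2],
  [0, 1, 0, 0, 0],
  [2, 0, 2, 2],
  [1, 3, 3, 2],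
  [1, 2, 2],
  [1, 2, 3],
  [2, 1, 4, 4, 4],
  [1, 2, 3, 3, 3],
  [1, 2, 2, 2],
  [2, 1, 2, 2, 2],
  [2, 0, 3, 2],
  [1, 3, 0],
  [1, 3, 2],
  [1, 3, 4],
  [0, 2, 0, 2, 0],
  [1, 3, 3, 3],
  [0, 0, 0, 4, 4],
  [1, 1, 3, 3, 4],
  [0, 1, 1, 1, 4],
  [1, 1, 1, 0, 1],
  [1, 1, 3, 0, 1],
  [2, 1, 4, 4],
  [3, 3, 3, 2, 4],
  [3, 0, 2, 3],
  [2, 1, 1, 1, 4],
  [1, 1, 1, 2, 1],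
  [0, 2, 2, 2, 0],
  [0, 0, 4, 4],
  [0, 0, 4, 4, 4],
  [0, 3, 3, 3, 0],
  [2, 3, 2, 2],
  [2, 2, 2, 0],
  [0, 2, 3, 2, 2],
  [1, 1, 1, 3, 3],
  [0, 3, 2, 3],
  [3, 3, 0, 0],
  [0, 3, 0, 2],
  [0, 0, 2, 3, 3],
  [1, 1, 3, 3, 3],
  [2, 0, 0],
  [1, 0, 1, 3, 3],
  [2, 0, 1],
  [2, 0, 2],
  [2, 0, 3],
  [2, 0, 4],
  [2, 3, 3, 0],
  [2, 0, 0, 0],
  [0, 3, 0, 3, 3],
  [0, 0, 3, 0, 3],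
  [0, 0, 0, 2, 0],
  [1, 3, 4, 4],
  [1, 1, 3, 3],
  [2, 1, 0],
  [2, 2, 2, 3],
  [2, 1, 1],
  [2, 1, 2],
  [2, 1, 4],
  [2, 1, 1, 1],
  [1, 2, 1, 1, 1],
  [2, 2, 0],
  [2, 2, 1],
  [2, 2, 3],
  [2, 2, 4],
  [2, 3, 2],
  [2, 3, 3],
  [3, 2, 4, 4, 4],
  [0, 3, 2, 2, 2],
  [0, 0, 3, 3, 2],
  [0, 0, 3, 2, 3],
  [1, 2, 3, 2, 3],
  [0, 3, 2, 3, 2],
  [0, 3, 3, 2, 1],
  [0, 1, 2, 2, 3],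
  [0, 3, 0, 3, 0],
  [2, 0, 2, 2, 4],
  [2, 0, 2, 2, 2],
  [2, 2, 2, 1, 2],
  [0, 2, 3, 2],
  [2, 2, 2, 1],
  [2, 2, 2, 4],
  [0, 2, 3, 3, 3],
  [3, 2, 2, 2, 4],
  [0, 3, 2, 3, 3],
  [1, 0, 3, 3, 3],
  [0, 1, 3, 3, 2],
  [3, 0, 3, 3, 0],
  [3, 0, 0],
  [3, 0, 1],
  [3, 0, 3],
  [0, 3, 4, 4],
  [3, 0, 0, 0],
  [0, 0, 2, 0, 2],
  [0, 2, 0, 2, 2],
  [0, 0, 0, 3, 0],
  [3, 2, 1],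
  [3, 2, 2],
  [3, 2, 3],
  [3, 2, 4],
  [0, 3, 3, 0, 0],
  [3, 3, 0],
  [3, 3, 2],
  [3, 3, 4],
  [0, 1, 2, 3, 2],
  [0, 1, 3, 2, 1],
  [0, 2, 1, 2, 1],
  [3, 3, 0, 3, 4],
  [3, 0, 3, 3, 3],
  [1, 3, 3, 4, 4],
  [2, 2, 0, 3],
  [3, 3, 3, 0],
  [3, 3, 3, 2],
  [0, 0, 2, 3, 2],
  [1, 3, 2, 1, 1],
  [3, 2, 3, 3],
  [0, 2, 0, 3],
  [2, 2, 0, 0],
  [0, 0, 2, 0],
  [3, 3, 2, 2],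
  [2, 3, 3, 2],
  [0, 2, 3, 3],
  [0, 3, 2, 2],
  [0, 2, 3, 2, 3],
  [0, 1, 1, 1, 3],
  [0, 0, 1, 1],
  [1, 1, 0, 0],
  [1, 1, 3, 2, 1],
  [1, 1, 0, 1],
  [1, 1, 0, 2],
  [0, 1, 1, 4, 4],
  [0, 0, 1, 1, 1],
  [0, 0, 1, 0, 1],
  [1, 1, 3, 0, 3],
  [0, 1, 1, 2],
  [1, 1, 2, 1],
  [1, 1, 2, 2],
  [1, 1, 2, 3],
  [2, 1, 1, 4, 4],
  [1, 1, 2, 2, 2],
  [1, 1, 3, 0],
  [1, 1, 3, 4],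
  [1, 1, 1, 3, 4],
  [0, 0, 1, 0],
  [0, 0, 1, 2],
  [0, 0, 1, 3],
  [0, 0, 3, 2, 1],
  [0, 2, 1, 1, 1],
  [0, 0, 2, 1],
  [0, 0, 2, 2],
  [0, 0, 2, 3],
  [0, 0, 2, 4],
  [0, 0, 1, 2, 2],
  [0, 0, 2, 2, 2],
  [0, 0, 3, 0],
  [0, 0, 3, 2],
  [0, 0, 3, 3],
  [0, 3, 0, 4],
  [0, 3, 2, 2, 1],
  [0, 0, 3, 3, 3],
  [1, 3, 0, 1],
  [3, 0, 0, 4],
  [2, 0, 2, 0],
  [0, 2, 0, 2],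
  [0, 3, 3, 0],
  [0, 2, 2, 0, 2],
  [3, 3, 2, 4, 4],
  [1, 0, 2, 2],
  [1, 3, 3, 2, 1],
  [1, 2, 2, 2, 1],
  [1, 1, 2, 1, 2],
  [1, 2, 1, 2, 1],
  [2, 2, 1, 4, 4],
  [1, 2, 1, 2, 2],
  [1, 1, 2, 3, 2],
  [1, 2, 2, 1],
  [3, 3, 2, 4],
  [1, 3, 3, 2, 2],
  [0, 2, 0, 4],
  [0, 1, 0, 1, 0],
  [0, 0, 2, 1, 0],
  [0, 0, 1, 3, 0],
  [0, 1, 0, 0],
  [0, 1, 3, 0, 3],
  [2, 3, 2, 1],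
  [1, 1, 0, 1, 1],
  [0, 1, 0, 1],
  [0, 1, 0, 3],
  [0, 0, 1, 2, 3],
  [0, 2, 0, 1],
  [0, 1, 1, 0],
  [0, 1, 1, 3],
  [0, 1, 1, 4],
  [0, 1, 2, 1],
  [0, 1, 2, 2],
  [0, 1, 2, 3],
  [0, 1, 2, 2, 2],
  [1, 2, 3, 2, 2],
  [0, 1, 3, 0],
  [0, 1, 3, 2],
  [0, 1, 3, 3],
  [0, 1, 3, 4],
  [0, 1, 3, 3, 3],
  [0, 2, 0, 0],
  [0, 1, 4, 4],
  [0, 3, 0, 1, 3],
  [3, 3, 0, 1],
  [1, 0, 3, 0],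
  [0, 0, 1, 3, 3],
  [1, 3, 2, 3],
  [0, 0, 0, 1, 1],
  [0, 3, 0, 1],
  [0, 0, 1, 4, 4],
  [0, 1, 3, 0, 2],
  [1, 0, 1, 1, 0],
  [0, 1, 1, 2, 1],
  [0, 1, 1, 1, 0],
  [0, 1, 1, 1, 2],
  [1, 0, 1, 1],
  [1, 1, 2, 1, 1],
  [1, 0, 1, 1, 2],
  [3, 2, 2, 1],
  [0, 0, 0, 1, 2],
  [1, 2, 2, 1, 1],
  [2, 1, 2, 2, 1],
  [0, 1, 0, 2, 2],
  [2, 2, 4, 4, 4],
  [3, 2, 4, 4],
  [0, 2, 1, 0],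
  [0, 2, 1, 1],
  [0, 2, 1, 2],
  [0, 2, 2, 1],
  [0, 2, 2, 4],
  [0, 0, 1, 0, 2],
  [0, 0, 0, 2, 2],
  [1, 1, 3, 2, 2],
  [1, 1, 2, 2, 3],
  [3, 3, 4, 4, 4],
  [2, 2, 2, 4, 4],
  [3, 3, 3, 2, 1],
  [3, 3, 3, 4, 4],
  [3, 3, 4, 4],
  [2, 2, 1, 2, 2],
  [1, 0, 2, 2, 2],
  [2, 2, 1, 1],
  [0, 2, 2, 2, 1],
  [2, 2, 0, 2],
  [2, 0, 3, 4],
  [1, 3, 3, 3, 2],
  [2, 1, 1, 4],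
  [3, 3, 2, 1, 1],
  [1, 1, 3, 4, 4],
  [0, 1, 1, 3, 2],
  [0, 3, 0, 0],
  [0, 3, 0, 3],
  [1, 0, 1, 2, 3],
  [1, 1, 3, 2, 3],
  [1, 3, 2, 1],
  [0, 3, 2, 1],
  [0, 0, 2, 1, 1],
  [3, 0, 3, 4],
  [1, 1, 3, 3, 2],
  [0, 3, 2, 1, 1],
  [0, 0, 0, 3, 3],
  [1, 2, 3, 3],
  [3, 3, 0, 3],
  [1, 3, 3, 4],
  [3, 0, 1, 3],
  [0, 0, 1, 0, 0],
  [1, 3, 2, 2, 1],
  [0, 1, 3, 2, 2],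
  [0, 2, 2, 1, 1],
  [2, 2, 4, 4],
  [2, 2, 3, 3],
  [1, 1, 1, 3, 2],
  [0, 1, 1, 2, 3],
  [1, 2, 2, 3, 3],
  [1, 3, 2, 3, 3],
  [1, 1, 1, 2, 3],
  [3, 2, 2, 4],
  [0, 2, 2, 1, 2],
  [1, 3, 0, 2],
  [1, 2, 2, 3],
  [3, 3, 2, 1, 4],
  [3, 2, 1, 4],
  [1, 2, 2, 1, 2],
  [1, 2, 3, 2],
  [2, 1, 2, 1],
  [0, 1, 2, 2, 0],
  [1, 0, 1, 3],
  [0, 0, 1, 1, 2],
  [0, 1, 0, 2, 3],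
  [0, 1, 0, 1, 1],
  [0, 1, 2, 1, 1],
  [1, 1, 1, 0, 3],
  [1, 1, 1, 2, 2],
  [0, 0, 0, 1, 3],
  [0, 0, 2, 2, 1],
  [0, 0, 0, 2, 1],
  [0, 0, 0, 2, 3],
  [0, 2, 0, 3, 4],
  [1, 3, 3, 3, 4],
  [0, 1, 1, 0, 0],
  [0, 1, 0, 3, 0],
  [1, 3, 2, 2],
  [2, 2, 3, 2, 1],
  [0, 0, 3, 0, 1],
  [0, 1, 1, 2, 2],
  [1, 1, 0, 1, 3],
  [3, 3, 0, 1, 3],
  [1, 0, 2, 3, 3],
  [2, 2, 1, 2],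
  [3, 3, 0, 4],
  [0, 2, 3, 2, 1],
  [0, 2, 2, 3, 3],
  [1, 2, 1, 1],
  [1, 2, 2, 2, 3],
  [1, 2, 2, 3, 2],
  [1, 3, 2, 3, 2],
  [1, 1, 2, 2, 1],
  [1, 3, 0, 3, 3],
  [0, 1, 1, 0, 3],
  [2, 0, 2, 4],
  [3, 0, 3, 3],
  [0, 0, 3, 0, 2],
  [0, 0, 2, 2, 0],
  [0, 0, 3, 3, 0],
  [0, 3, 3, 0, 3],
  [2, 1, 2, 2],
  [3, 2, 2, 4, 4],
  [0, 0, 2, 0, 3],
  [0, 1, 3, 2, 3],
  [3, 3, 2, 1],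
  [0, 1, 0, 1, 3],
  [1, 1, 0, 3, 3],
  [1, 0, 1, 0],
  [0, 1, 1, 0, 1],
  [1, 0, 1, 2],
  [1, 0, 2, 3],
  [1, 0, 3, 3],
  [2, 2, 1, 4],
  [3, 0, 3, 0],
  [1, 2, 2, 0],
  [0, 0, 1, 1, 0],
  [0, 0, 1, 0, 3],
  [0, 1, 2, 1, 2],
  [1, 3, 3, 3, 0],
  [0, 1, 3, 0, 1],
  [0, 0, 2, 0, 1],
  [1, 3, 0, 3],
  [0, 1, 1, 3, 3],
  [0, 1, 2, 3, 3],
  [3, 2, 1, 1, 1],
  [1, 1, 2, 3, 3],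
  [0, 1, 1, 0, 2],
  [0, 2, 1, 2, 2],
  [1, 3, 0, 1, 3],
  [0, 0, 1, 3, 2],
  [0, 1, 2, 2, 1],
  [0, 0, 1, 2, 1],
  [0, 1, 1, 3, 0],
  [3, 2, 1, 1],
  [3, 2, 1, 1, 4],
  [0, 0, 1, 1, 3],
  [0, 1, 0, 1, 2]]

/-- certificate -/
def wC : List ℕ :=
  [16]

/-- certificate -/
def q1Comm : List (List (List ℕ)) :=
  [[[], [0], [0, 0, 0], [0, 0], []],
  [[0, 0, 0, 0], [], [0, 0, 0, 0], [], []],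
  [[0, 0], [0], [], [0, 0, 0, 0], []],
  [[0, 0, 0], [], [0], [], []],
  [[], [], [], [], []]]

/-- certificate -/
def q2Comm : (ℕ × ℕ) × (ℕ × ℕ) :=
  ((0, 2), (0, 4))

/-- certificate -/
def badTwo : List (ℕ × List ℕ × ℕ × List ℕ) :=
  [(1, ([6], (5, [7, 7, 7]))),
  (3, ([6], (4, [7, 7, 7]))),
  (4, ([], (3, [6, 7]))),
  (5, ([], (1, [6, 6, 6, 7])))]

/-- certificate -/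
def badThree : List ℕ × List ℕ × ℕ × List ℕ :=
  ([5], ([5, 5, 5, 5], (4, [7, 5, 7, 7])))

/-- certificate -/
def badMoves : List (List ℕ) :=
  [[1],
  [3, 0],
  [0, 2],
  [2, 2, 0],
  [2, 8, 0],
  [2, 9, 0],
  [3, 10],
  [0, 2, 2, 2, 2],
  [3, 1, 20, 18, 1],
  [0]]

/-- certificate -/
def loopI1 : List (List ℕ) :=
  [[0, 4, 16, 19, 4, 10, 19, 5, 1],
  [1, 14, 0, 13, 5, 13, 4, 18, 13],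
  [0, 20, 18, 11, 5, 16, 18, 11, 1]]

/-- certificate -/
def loopI2 : List (List ℕ) :=
  [[12, 18, 11, 14, 0, 21, 1, 11, 19, 5],
  [19, 21, 14, 18, 0, 15, 15, 13, 13]]

/-- certificate -/
def loopS1 : List (List ℕ) :=
  [[0, 18, 5, 14, 20, 5, 21, 14, 18, 12, 10, 1],
  [15, 1, 11, 15, 0, 17, 19, 5, 5],
  [18, 15, 1, 13, 21, 16, 15, 5, 1]]

/-- certificate -/
def sigTo : List ℕ :=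
  [0,
  5,
  10,
  18,
  14]

/-- certificate -/
def gZero : List ℕ :=
  [1,
  1,
  17,
  19]

/-- certificate -/
def orbTwo : List ℕ :=
  [16,
  746,
  2149,
  2861,
  3547,
  4683,
  6304,
  6774,
  9494,
  10614,
  11484,
  12327,
  12438,
  14119,
  14613,
  15213,
  15417,
  15658,
  15937,
  16658,
  16779,
  17428,
  17599,
  19422]

/-- certificate -/
def hGen : List (List ℕ) :=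
  [[0],
  [4],
  [10],
  [12],
  [14],
  [16],
  [18],
  [20],
  [2],
  [8]]

/-- certificate -/
def dWord : List ℕ :=
  [0,
  2,
  2,
  1,
  3,
  5,
  15,
  17,
  0,
  8,
  0,
  8,
  0,
  11,
  2,
  8]

end

end Cfsg.Agent.LyonsOut
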