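import Cfsg.Agent.Lib.LyonsOut.Checks

/-! Scans over all 19530 points. -/

set_option autoImplicit false
set_option maxRecDepth 100000
set_option maxHeartbeats 0
set_option Elab.async false

namespace Cfsg.Agent.LyonsOut

open Cfsg.Agent.CosetCert Cfsg.Agent.Lyons

theorem q1Fix_ok : allLong (fun p => Nat.blt p 5 || q1G.any fun g => !Nat.beq (actW g p) p) 19530 = true := by
  decide +kernel

theorem q2Fix_ok : allLong (fun p => q2G.any fun g => !Nat.beq (actW g p) p) 19530 = true := by decide +kernel

theorem kFix_ok : allLong (fun p => Nat.beq p 0 || kLets.any fun l => !Nat.beq (actL l p) p) 19530 = true := by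
  decide +kernel

theorem orbClosed_ok : allLong (fun p => !inOrb p || kLets.all fun l => inOrb (actL l p)) 19530 = true := by
  decide +kernel

theorem loopI1_at : allLong (loopAt loopI1 11120) 19530 = true := by decide +kernel

theorem loopI2_at : allLong (loopAt loopI2 15658) 19530 = true := by decide +kernel

theorem loopS1_at : allLong (loopAt loopS1 6383) 19530 = true := by decide +kernel

end Cfsg.Agent.LyonsOut
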