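import Cfsg.Agent.Lib.LyonsOut.Checks

/-! Orbit bounds point by point. -/

set_option autoImplicit false
set_option maxRecDepth 100000
set_option maxHeartbeats 0
set_option Elab.async false

namespace Cfsg.Agent.LyonsOut

open Cfsg.Agent.CosetCert Cfsg.Agent.Lyons

theorem sixQ0 : sixSlice six_q small_q 0 = true := by decide +kernel
theorem sixQ1 : sixSlice six_q small_q 1 = true := by decide +kernel
theorem sixQ2 : sixSlice six_q small_q 2 = true := by decide +kernel
theorem sixQ3 : sixSlice six_q small_q 3 = true := by decide +kernel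
theorem sixQ4 : sixSlice six_q small_q 4 = true := by decide +kernel

theorem sixQ_ok {p : ℕ} (hp : p < 19530) : sixAt six_q small_q p = true ∨ sixAt (six_q.take 8) small_q p = true := by
  obtain ⟨s, i, hs, hi, rfl⟩ : ∃ s i, s < 5 ∧ i < 3906 ∧ p = 3906 * s + i :=
    ⟨p / 3906, p % 3906, by omega, by omega, by omega⟩
  have h : sixSlice six_q small_q s = true := by
    interval_cases s
    exacts [sixQ0, sixQ1, sixQ2, sixQ3, sixQ4]
  have h2 := allBelow_spec h hi
  rw [force_eq] at h2
  simpa [Bool.or_eq_true, or_comm] using h2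

end Cfsg.Agent.LyonsOut
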