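import Cfsg.Agent.Lib.LyonsOut.Norm
import Cfsg.Agent.Lib.LyonsOut.Checks
import Cfsg.Agent.Lib.LyonsOut.Scans
import Cfsg.Agent.Lib.Lyons.G2Five
import Cfsg.Agent.Lib.LyonsOut.SixU
import Cfsg.Agent.Lib.LyonsOut.SixQ

/-!
Inside the group of order 5859000000: the Sylow 5-subgroup, its two distinguished subgroups of index 5, their
normalisers and centralisers of the point stabiliser.
-/

set_option autoImplicit false
set_option maxRecDepth 100000
set_option linter.style.haveILetI false

namespace Cfsg.Agent.LyonsOut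

open Cfsg.Agent.CosetCert Cfsg.Agent.Lyons

noncomputable section

/-! ### Words -/

theorem wSub_le {ws : List (List ℕ)} {S : Subgroup H0} (h : ∀ w ∈ ws, el w ∈ S) : wSub ws ≤ S := by
  rw [wSub, Subgroup.closure_le]
  rintro _ ⟨w, hw, rfl⟩
  exact h w hw

theorem el_expW_mem {gs : List (List ℕ)} : ∀ ix, el (expW gs ix) ∈ wSub gs
  | [] => by simp [expW]
  | i :: l => by
    rw [expW, el_append]
    refine Subgroup.mul_mem _ ?_ (el_expW_mem l)
    rcases lt_or_ge i gs.length with h | h
    · rw [List.getD_eq_getElem _ _ h]; exact mem_wSub (List.getElem_mem h)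
    · rw [List.getD_eq_default _ _ h]; simp

theorem el_powW (g : List ℕ) : ∀ n, el (powW g n) = el g ^ n
  | 0 => by simp [powW]
  | n + 1 => by rw [powW, el_append, el_powW g n, pow_succ']

theorem mem_of_memC {gs : List (List ℕ)} {x ix : List ℕ} (h : memC gs x ix = true) : el x ∈ wSub gs := by
  rw [eq_of_sameW h]; exact el_expW_mem ix

theorem el_conjW (x g : List ℕ) : el (conjW x g) = (el x)⁻¹ * el g * el x := by
  rw [conjW, el_append, el_append, el_invL]

theorem sub_spec {gs xs cert : List (List ℕ)} (h : subCheck gs xs cert = true) {w : List ℕ} (hw : w ∈ xs) :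
    el w ∈ wSub gs := by
  obtain ⟨i, hi, rfl⟩ := List.getElem_of_mem hw
  have := allBelow_spec h hi
  rw [List.getD_eq_getElem _ _ hi] at this
  exact mem_of_memC this

theorem norm_wSub {gs : List (List ℕ)} {x : H0} (h : ∀ g ∈ gs, x⁻¹ * el g * x ∈ wSub gs) :
    Norm (wSub gs) x :=
  norm_closure fun y hy => by obtain ⟨g, hg, rfl⟩ := hy; exact h g hg

theorem norm_spec {gs xs : List (List ℕ)} {cert : List (List (List ℕ))} (h : normCheck gs xs cert = true)
    {w : List ℕ} (hw : w ∈ xs) : Norm (wSub gs) (el w) := by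
  obtain ⟨j, hj, rfl⟩ := List.getElem_of_mem hw
  have h2 := allBelow_spec h hj
  rw [List.getD_eq_getElem _ _ hj] at h2
  refine norm_wSub fun g hg => ?_
  rw [← el_conjW]
  exact sub_spec h2 (List.mem_map.2 ⟨g, hg, rfl⟩)

theorem pt_el' {w : List ℕ} (h : letOK w = true) {q : ℕ} (hq : q < 19530) : pt (el w) q = actW w q :=
  pt_el (letOK_spec h) hq

theorem pt_inj (h : H0) {p q : ℕ} (e : pt h p = pt h q) : p = q := (perm h).symm.injective e

theorem pt_cancel (h : H0) (q : ℕ) : pt h⁻¹ (pt h q) = q := by rw [← pt_mul, mul_inv_cancel, pt_one]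

theorem pt_cancel' (h : H0) (q : ℕ) : pt h (pt h⁻¹ q) = q := by rw [← pt_mul, inv_mul_cancel, pt_one]

theorem el_ne_of_neqW {u v : List ℕ} (h : neqW u v = true) : el u ≠ el v := by
  simp only [neqW, Bool.and_eq_true, Bool.not_eq_true'] at h
  obtain ⟨⟨hu, hv⟩, hne⟩ := h
  intro e
  have k : ∀ q, q < 19530 → actW u q = actW v q := fun q hq => by rw [← pt_el' hu hq, e, pt_el' hv hq]
  rw [k 0 (by norm_num), k 11120 (by norm_num), k 15658 (by norm_num)] at hne
  simp at hne

instance finite_H0 : Finite H0 := Nat.finite_of_card_ne_zero (by rw [card_H0]; norm_num)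

/-! ### The subgroups -/

/-- The Sylow subgroup. -/
def sU : Subgroup H0 := wSub uG
/-- The radical of the first parabolic subgroup. -/
def sQ1 : Subgroup H0 := wSub q1G
/-- The radical of the second parabolic subgroup. -/
def sQ2 : Subgroup H0 := wSub q2G
/-- The subgroup of order 125. -/
def sA : Subgroup H0 := wSub aG
/-- The Borel subgroup. -/
def sB : Subgroup H0 := wSub bG
/-- The Borel subgroup met with the point stabiliser. -/
def sB0 : Subgroup H0 := wSub b0G
/-- The second parabolic subgroup. -/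
def sP2 : Subgroup H0 := wSub p2G
/-- The part of the chain. -/
def sC (i : ℕ) : Subgroup H0 := wSub (chainG.take i)

theorem uG_eq : uG = q1G ++ [[2]] := rfl
theorem chain_len : chainG.length = 6 := rfl

theorem sC_six : sC 6 = sU := by
  refine le_antisymm (wSub_le fun w hw => ?_) (wSub_le fun w hw => ?_)
  · exact sub_spec chainU_ok (List.mem_of_mem_take hw)
  · have : wSub chainG = sC 6 := by rw [sC, List.take_of_length_le (by rw [chain_len])]
    rw [← this]
    exact sub_spec uChain_ok hw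

theorem sC_five : sC 5 = sQ1 :=
  le_antisymm (wSub_le fun _ hw => sub_spec chainQ1_ok hw) (wSub_le fun _ hw => sub_spec q1Chain_ok hw)

theorem sC_card : ∀ i ≤ 6, Nat.card (sC i) ∣ 5 ^ i := by
  intro i
  induction i with
  | zero => intro _; simp [sC, wSub]
  | succ i ih =>
    intro hi
    have h := allBelow_spec chain_ok (i := i) (by omega)
    simp only [Bool.and_eq_true] at h
    have hlen : i < chainG.length := by rw [chain_len]; omega
    have hsplit : chainG.take (i + 1) = chainG.take i ++ [chainG.getD i []] := by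
      rw [List.take_succ, List.getElem?_eq_getElem hlen, List.getD_eq_getElem _ _ hlen]; rfl
    refine (card_step (S := sC i) (T := sC (i + 1)) (g := el (chainG.getD i [])) (p := 5) ?_ ?_ ?_ ?_ ?_).trans
      (by rw [pow_succ']; exact mul_dvd_mul_left _ (ih (by omega)))
    · exact wSub_le fun w hw => mem_wSub (hsplit ▸ List.mem_append_left _ hw)
    · exact mem_wSub (hsplit ▸ List.mem_append_right _ (List.mem_singleton_self _))
    · refine wSub_le fun w hw => ?_
      rw [hsplit, List.mem_append, List.mem_singleton] at hw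
      rcases hw with hw | rfl
      · exact Subgroup.subset_closure (Or.inl (mem_wSub hw))
      · exact Subgroup.subset_closure (Or.inr rfl)
    · exact norm_wSub fun g hg => by
        rw [← el_conjW]; exact sub_spec h.2 (List.mem_map.2 ⟨g, hg, rfl⟩)
    · rw [← el_powW]; exact mem_of_memC h.1

theorem small_spec :
    small_u = [0, 1, 2, 3, 4] ∧
    (∀ w ∈ six_u, ∀ l ∈ w, [l] ∈ uG ∨ [flipL l] ∈ uG) ∧
    (∀ i < small_q.length, actW (expW p2G (moveQ.getD i [])) 0 = small_q.getD i 0 ∧
      letOK (expW p2G (moveQ.getD i [])) = true) ∧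
    (∀ p < 5, actW (powW [2] (moveB.getD p 0)) 0 = p) := by
  have h := small_ok
  simp only [smallCheck, Bool.and_eq_true, decide_eq_true_eq, List.all_eq_true, List.any_eq_true,
    Bool.or_eq_true] at h
  obtain ⟨⟨⟨⟨⟨⟨⟨⟨⟨⟨h1, h2⟩, h3⟩, h4⟩, -⟩, -⟩, -⟩, -⟩, -⟩, -⟩, -⟩ := h
  refine ⟨h1, fun w hw l hl => ?_, fun i hi => ?_, fun p hp => Nat.eq_of_beq_eq_true (allBelow_spec h4 hp)⟩
  · obtain ⟨g, hg, e | e⟩ := h2 w hw l hl
    · exact Or.inl (e ▸ hg)
    · exact Or.inr (e ▸ hg)
  · have := allBelow_spec h3 hi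
    simp only [Bool.and_eq_true, Nat.beq_eq] at this
    exact this

theorem fix_q1 : ∀ g ∈ q1G, ∀ p < 5, actW g p = p := by
  have h := small_ok
  simp only [smallCheck, Bool.and_eq_true, List.all_eq_true, List.mem_range, Nat.beq_eq] at h
  exact h.1.1.1.1.1.1.2

theorem u_five : ∀ g ∈ uG, ∀ p < 5, actW g p < 5 ∧ actW (invL g) p < 5 := by
  have h := small_ok
  simp only [smallCheck, Bool.and_eq_true, List.all_eq_true, List.mem_range, Nat.blt_eq] at h
  exact h.1.1.1.1.1.2

theorem u_small : ∀ g ∈ uG, ∀ p ∈ small_q, actW g p ∈ small_q ∧ actW (invL g) p ∈ small_q := by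
  have h := small_ok
  simp only [smallCheck, Bool.and_eq_true, List.all_eq_true, List.any_eq_true, Nat.beq_eq] at h
  intro g hg p hp
  obtain ⟨⟨a, ha, ea⟩, ⟨b, hb, eb⟩⟩ := h.1.1.1.1.2 g hg p hp
  exact ⟨ea ▸ ha, eb ▸ hb⟩

theorem q2_block : ∀ g ∈ q2G, ∀ p ∈ small_q, actW g p / 5 = p / 5 ∧ actW (invL g) p / 5 = p / 5 := by
  have h := small_ok
  simp only [smallCheck, Bool.and_eq_true, List.all_eq_true, Nat.beq_eq] at h
  exact h.1.1.1.2

theorem small_lt : ∀ p ∈ small_q, p < 19530 := by decide +kernel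

theorem uG_letOK : ∀ g ∈ uG, letOK g = true ∧ letOK (invL g) = true := by decide +kernel

theorem q2G_letOK : ∀ g ∈ q2G, letOK g = true ∧ letOK (invL g) = true := by decide +kernel

theorem q1G_letOK : ∀ g ∈ q1G, letOK g = true := by decide +kernel

theorem pt_inv_el {g : List ℕ} (h : letOK (invL g) = true) {q : ℕ} (hq : q < 19530) :
    pt (el g)⁻¹ q = actW (invL g) q := by rw [← el_invL, pt_el' h hq]

theorem q1_le_u : sQ1 ≤ sU := wSub_le fun w hw => mem_wSub (uG_eq ▸ List.mem_append_left _ hw)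

theorem q1_fix {h : H0} (hh : h ∈ sQ1) {p : ℕ} (hp : p < 5) : pt h p = p := by
  induction hh using Subgroup.closure_induction with
  | mem y hy =>
    obtain ⟨w, hw, rfl⟩ := hy
    rw [pt_el' (q1G_letOK w hw) (by omega)]
    exact fix_q1 w hw p hp
  | one => exact pt_one p
  | mul a b _ _ ha hb => rw [pt_mul, ha, hb]
  | inv a _ ha => conv_lhs => rw [← ha]
                  exact pt_cancel a p

theorem u_maps {h : H0} (hh : h ∈ sU) {p : ℕ} :
    (p < 5 → pt h p < 5) ∧ (p ∈ small_q → pt h p ∈ small_q) := by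
  revert p
  induction hh using Subgroup.closure_induction'' with
  | mem y hy =>
    obtain ⟨w, hw, rfl⟩ := hy
    intro p
    exact ⟨fun hp => by rw [pt_el' (uG_letOK w hw).1 (by omega)]; exact (u_five w hw p hp).1,
      fun hp => by rw [pt_el' (uG_letOK w hw).1 (small_lt p hp)]; exact (u_small w hw p hp).1⟩
  | inv_mem y hy =>
    obtain ⟨w, hw, rfl⟩ := hy
    intro p
    exact ⟨fun hp => by rw [pt_inv_el (uG_letOK w hw).2 (by omega)]; exact (u_five w hw p hp).2,
      fun hp => by rw [pt_inv_el (uG_letOK w hw).2 (small_lt p hp)]; exact (u_small w hw p hp).2⟩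
  | one => intro p; exact ⟨fun hp => by rwa [pt_one], fun hp => by rwa [pt_one]⟩
  | mul a b _ _ ha hb =>
    intro p
    exact ⟨fun hp => by rw [pt_mul]; exact hb.1 (ha.1 hp), fun hp => by rw [pt_mul]; exact hb.2 (ha.2 hp)⟩

theorem q2_maps {h : H0} (hh : h ∈ sQ2) {p : ℕ} (hp : p ∈ small_q) :
    pt h p ∈ small_q ∧ pt h p / 5 = p / 5 := by
  have hle : sQ2 ≤ sU := wSub_le fun w hw => by
    rw [← sC_six, sC, List.take_of_length_le (by rw [chain_len])]
    refine mem_wSub ?_
    revert w hw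
    decide +kernel
  refine ⟨(u_maps (hle hh)).2 hp, ?_⟩
  revert p
  induction hh using Subgroup.closure_induction'' with
  | mem y hy =>
    obtain ⟨w, hw, rfl⟩ := hy
    intro p hp
    rw [pt_el' (q2G_letOK w hw).1 (small_lt p hp)]; exact (q2_block w hw p hp).1
  | inv_mem y hy =>
    obtain ⟨w, hw, rfl⟩ := hy
    intro p hp
    rw [pt_inv_el (q2G_letOK w hw).2 (small_lt p hp)]; exact (q2_block w hw p hp).2
  | one => intro p _; rw [pt_one]
  | mul a b ha' hb' ha hb =>
    intro p hp
    rw [pt_mul, hb ((u_maps (hle ha')).2 hp), ha hp]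

theorem q2_le_u : sQ2 ≤ sU := wSub_le fun w hw => by
  rw [← sC_six, sC, List.take_of_length_le (by rw [chain_len])]
  refine mem_wSub ?_
  revert w hw
  decide +kernel

theorem el_two_mem : el [2] ∈ sU := mem_wSub (by decide +kernel)

theorem two_not_q1 : el [2] ∉ sQ1 := fun h => by
  have := q1_fix h (p := 0) (by norm_num)
  rw [pt_el' rfl (by norm_num)] at this
  revert this
  decide +kernel

theorem card_q1 : Nat.card sQ1 = 5 ^ 5 := by
  have hdvd : Nat.card sQ1 ∣ 5 ^ 5 := sC_five ▸ sC_card 5 (by norm_num)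
  have hge : 626 ≤ Nat.card sQ1 := by
    have h := q1Pts_ok
    simp only [Bool.and_eq_true, Nat.beq_eq, List.all_eq_true] at h
    obtain ⟨⟨hlen, hok⟩, hincr⟩ := h
    have hnd : (q1Pts.map fun ix => actW (expW q1G ix) 5).Nodup := by
      generalize (q1Pts.map fun ix => actW (expW q1G ix) 5) = l at hincr ⊢
      have key : ∀ l : List ℕ, incrCheck l = true → List.Pairwise (· < ·) l := by
        intro l
        induction l with
        | nil => simp
        | cons x l ih =>
          intro hl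
          cases l with
          | nil => simp
          | cons y l =>
            simp only [incrCheck, Bool.and_eq_true, Nat.blt_eq] at hl
            have := ih hl.2
            refine List.pairwise_cons.2 ⟨fun a ha => ?_, this⟩
            rcases List.mem_cons.1 ha with rfl | ha
            exacts [hl.1, hl.1.trans ((List.pairwise_cons.1 this).1 a ha)]
      exact (key l hincr).imp ne_of_lt
    let f : Fin q1Pts.length → sQ1 := fun i => ⟨el (expW q1G q1Pts[i]), el_expW_mem _⟩
    have hf : Function.Injective f := by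
      intro i j e
      have e' : actW (expW q1G q1Pts[i]) 5 = actW (expW q1G q1Pts[j]) 5 := by
        have := congrArg (fun s : sQ1 => pt (s : H0) 5) e
        dsimp only [f] at this
        rwa [pt_el' (hok q1Pts[i] (List.getElem_mem _)) (by norm_num),
          pt_el' (hok q1Pts[j] (List.getElem_mem _)) (by norm_num)] at this
      refine Fin.ext ((hnd.getElem_inj_iff (hi := by simp) (hj := by simp)).1 ?_)
      simpa using e'
    have := Nat.card_le_card_of_injective f hf
    rwa [Nat.card_fin, hlen] at this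
  obtain ⟨k, hk, e⟩ := (Nat.dvd_prime_pow (by norm_num)).1 hdvd
  rw [e]
  interval_cases k <;> first | rfl | (rw [e] at hge; norm_num at hge)

theorem card_u : Nat.card sU = 5 ^ 6 := by
  have hdvd : Nat.card sU ∣ 5 ^ 6 := sC_six ▸ sC_card 6 le_rfl
  have hlt : 5 ^ 5 < Nat.card sU := by
    rw [← card_q1]
    refine lt_of_le_of_ne (Subgroup.card_le_of_le q1_le_u) fun e => two_not_q1 ?_
    exact (Subgroup.eq_of_le_of_card_ge q1_le_u e.ge).symm ▸ el_two_mem
  obtain ⟨k, hk, e⟩ := (Nat.dvd_prime_pow (by norm_num)).1 hdvd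
  rw [e]
  interval_cases k <;> first | rfl | (rw [e] at hlt; norm_num at hlt)

theorem lists_spec : phG = chainG.take 4 ∧ aG = chainG.take 3 ∧ q2G = [2] :: phG ∧
    chainG.getD 5 [] = [2] ∧ chainG.getD 4 [] = cP ∧ tG ∈ torG := by
  refine ⟨rfl, rfl, rfl, rfl, rfl, ?_⟩
  decide +kernel

theorem u_le_q2_cP : sU ≤ Subgroup.closure ((sQ2 : Set H0) ∪ {el cP}) := by
  rw [← sC_six, sC]
  refine wSub_le fun w hw => ?_
  have : w ∈ q2G ∨ w = cP := by
    revert w hw
    decide +kernel
  rcases this with h | rfl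
  · exact Subgroup.subset_closure (Or.inl (mem_wSub h))
  · exact Subgroup.subset_closure (Or.inr rfl)

theorem cP_mem : el cP ∈ sQ1 := mem_wSub (by decide +kernel)

theorem norm_q2_p2 {w : List ℕ} (hw : w ∈ p2G) : Norm sQ2 (el w) := norm_spec normQ2_ok hw

theorem card_q2 : Nat.card sQ2 = 5 ^ 5 := by
  have hn : Norm sQ2 (el cP) := norm_q2_p2 (by decide +kernel)
  have hpow : el cP ^ 5 ∈ sQ2 := by
    have h := allBelow_spec chain_ok (i := 4) (by norm_num)
    simp only [Bool.and_eq_true] at h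
    rw [← el_powW, ← lists_spec.2.2.2.2.1]
    refine (wSub_le fun v hv => mem_wSub ?_ : sC 4 ≤ sQ2) (mem_of_memC h.1)
    revert v hv
    decide +kernel
  have h5 : Nat.card sU ∣ 5 * Nat.card sQ2 :=
    card_step q2_le_u (q1_le_u cP_mem) u_le_q2_cP hn hpow
  rw [card_u] at h5
  have hdvd : Nat.card sQ2 ∣ 5 ^ 6 := card_u ▸ Subgroup.card_dvd_of_le q2_le_u
  have hne : Nat.card sQ2 ≠ 5 ^ 6 := fun e => by
    have heq : sQ2 = sU := Subgroup.eq_of_le_of_card_ge q2_le_u (by rw [card_u, e])
    have h := small_ok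
    simp only [smallCheck, Bool.and_eq_true, List.any_eq_true, Bool.not_eq_true'] at h
    obtain ⟨g, hg, p, hp, hne⟩ := h.1.1.2
    have := (q2_maps (heq ▸ mem_wSub hg : el g ∈ sQ2) hp).2
    rw [pt_el' (uG_letOK g hg).1 (small_lt p hp)] at this
    rw [this] at hne
    simp at hne
  have h55 : 5 ^ 5 ∣ Nat.card sQ2 := Nat.dvd_of_mul_dvd_mul_left (by norm_num : 0 < 5) (by simpa using h5)
  obtain ⟨k, hk, e⟩ := (Nat.dvd_prime_pow (by norm_num)).1 hdvd
  rw [e] at h55 hne ⊢
  have : 5 ≤ k := (Nat.pow_dvd_pow_iff_le_right (by norm_num)).1 h55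
  have : k ≠ 6 := fun hk6 => hne (by rw [hk6])
  rw [show k = 5 by omega]

/-! ### The point stabiliser and the first parabolic subgroup -/

/-- The coset representatives. -/
def repE (j : ℕ) : H0 := el (repR.getD j [])

theorem b0_le_b : sB0 ≤ sB := wSub_le fun w hw => mem_wSub (by
  revert w hw
  decide +kernel)

theorem k_cases {h : H0} (hh : pt h 0 = 0) : ∃ j < 6, ∃ b ∈ sB0, h = repE j * b := by
  have hk : h ∈ subK := subK_eq ▸ hh
  have step : ∀ g < 16, ∀ y : H0, (∃ j < 6, ∃ b ∈ sB0, y = repE j * b) →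
      ∃ j < 6, ∃ b ∈ sB0, el [kLets.getD g 0] * y = repE j * b := by
    rintro g hg _ ⟨i, hi, b, hb, rfl⟩
    have h2 := allBelow_spec (allBelow_spec rep_ok hg) hi
    simp only [Bool.and_eq_true, Nat.blt_eq] at h2
    refine ⟨_, h2.1, el (expW b0G ((repClose.getD g []).getD i (0, [])).2) * b,
      sB0.mul_mem (el_expW_mem _) hb, ?_⟩
    rw [repE, ← mul_assoc, ← el_append, ← mul_assoc, repE, ← el_append,
      show [kLets.getD g 0] ++ repR.getD i [] = kLets.getD g 0 :: repR.getD i [] from rfl, eq_of_sameW h2.2]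
  have hl : ∀ l ∈ kLets, ∀ y : H0, (∃ j < 6, ∃ b ∈ sB0, y = repE j * b) →
      ∃ j < 6, ∃ b ∈ sB0, el [l] * y = repE j * b := by
    intro l hl y hy
    obtain ⟨g, hg, rfl⟩ := List.getElem_of_mem hl
    rw [← List.getD_eq_getElem _ 0 hg]
    exact step g hg y hy
  have hone : ∀ w ∈ OrbData.kOne.ws, ∃ l, w = [l] ∧ l ∈ kLets ∧ flipL l ∈ kLets := by
    intro w hw
    have : w ∈ ([[0], [4], [10], [12], [14], [16], [18], [20]] : List (List ℕ)) := hw
    simp only [List.mem_cons, List.not_mem_nil, or_false] at this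
    rcases this with rfl | rfl | rfl | rfl | rfl | rfl | rfl | rfl <;>
      exact ⟨_, rfl, by decide, by decide⟩
  clear hh
  induction hk using Subgroup.closure_induction_left with
  | one => exact ⟨0, by norm_num, 1, sB0.one_mem, by rw [repE, show repR.getD 0 [] = [] from rfl]; simp⟩
  | mul_left a ha b _ ih =>
    obtain ⟨w, hw, rfl⟩ := ha
    obtain ⟨l, rfl, hl1, -⟩ := hone w hw
    exact hl l hl1 b ih
  | inv_mul_cancel a ha b _ ih =>
    obtain ⟨w, hw, rfl⟩ := ha
    obtain ⟨l, rfl, -, hl2⟩ := hone w hw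
    rw [← el_invL, show invL [l] = [flipL l] from rfl]
    exact hl _ hl2 b ih

theorem repE_fix (j : ℕ) : pt (repE j) 0 = 0 := by
  have h : allBelow (fun j => letOK (repR.getD j []) && Nat.beq (actW (repR.getD j []) 0) 0) 6 = true := by
    decide +kernel
  rw [repE]
  rcases lt_or_ge j 6 with hj | hj
  · have := allBelow_spec h hj
    simp only [Bool.and_eq_true, Nat.beq_eq] at this
    rw [pt_el' this.1 (by norm_num), this.2]
  · rw [List.getD_eq_default _ _ (show repR.length ≤ j from hj)]; simp [pt_one]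

theorem p1_cases {h : H0} (hh : pt h 0 < 5) : ∃ j < 6, ∃ b ∈ sB, h = repE j * b := by
  obtain ⟨-, -, -, hb⟩ := small_spec
  set x := el (powW [2] (moveB.getD (pt h 0) 0)) with hx
  have hx0 : pt x 0 = pt h 0 := by
    rw [hx, pt_el' ?_ (by norm_num), hb _ hh]
    have : allBelow (fun p => letOK (powW [2] (moveB.getD p 0))) 5 = true := by decide +kernel
    exact allBelow_spec this hh
  have hk : pt (h * x⁻¹) 0 = 0 := by rw [pt_mul, ← hx0, pt_cancel]
  obtain ⟨j, hj, b, hb', e⟩ := k_cases hk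
  refine ⟨j, hj, b * x, sB.mul_mem (b0_le_b hb') ?_, by rw [← mul_assoc, ← e, inv_mul_cancel_right]⟩
  rw [hx, el_powW]
  exact pow_mem (mem_wSub (by decide +kernel)) _

theorem norm_u_b {x : H0} (hx : x ∈ sB) : Norm sU x := by
  have : sB ≤ nSub sU := wSub_le fun w hw => by
    rcases List.mem_append.1 (show w ∈ uG ++ torG from hw) with h | h
    · exact norm_of_mem (mem_wSub h)
    · exact norm_spec normU_ok h
  exact this hx

theorem norm_q2_sP2 {x : H0} (hx : x ∈ sP2) : Norm sQ2 x :=
  (wSub_le fun _ hw => norm_q2_p2 hw : sP2 ≤ nSub sQ2) hx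

theorem norm_a_sP2 {x : H0} (hx : x ∈ sP2) : Norm sA x :=
  (wSub_le fun _ hw => norm_spec normA_ok hw : sP2 ≤ nSub sA) hx

theorem b_le_p2 : sB ≤ sP2 := wSub_le fun _ hw => mem_wSub (List.mem_append_left _ hw)

theorem norm_q1_letter {w : List ℕ} (hw : w ∈ kLets.map (fun l => [l]) ++ [[2]]) : Norm sQ1 (el w) :=
  norm_spec normQ1_ok hw

theorem norm_q1_kword : ∀ {w : List ℕ}, (∀ l ∈ w, l ∈ kLets) → Norm sQ1 (el w)
  | [], _ => by simpa using norm_one sQ1
  | l :: w, h => by
    rw [show l :: w = [l] ++ w from rfl, el_append]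
    exact norm_mul (norm_q1_letter (List.mem_append_left _ (List.mem_map.2 ⟨l, h l List.mem_cons_self, rfl⟩)))
      (norm_q1_kword fun y hy => h y (List.mem_cons_of_mem _ hy))

theorem rep_kLets : ∀ j, ∀ l ∈ repR.getD j [], l ∈ kLets := by
  intro j
  rcases lt_or_ge j repR.length with hj | hj
  · rw [List.getD_eq_getElem _ _ hj]
    revert j
    decide +kernel
  · rw [List.getD_eq_default _ _ hj]; simp

theorem norm_q1_b {x : H0} (hx : x ∈ sB) : Norm sQ1 x := by
  have : sB ≤ nSub sQ1 := wSub_le fun w hw => by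
    rcases List.mem_append.1 (show w ∈ uG ++ torG from hw) with h | h
    · rcases List.mem_append.1 (uG_eq ▸ h) with h' | h'
      · exact norm_of_mem (mem_wSub h')
      · rw [List.mem_singleton.1 h']
        exact norm_q1_letter (List.mem_append_right _ (List.mem_singleton_self _))
    · exact norm_q1_kword (by revert w h; decide +kernel)
  exact this hx

/-- The first parabolic subgroup. -/
def sP1 : Subgroup H0 := nSub sQ1

theorem pt_lt_five {h : H0} (hh : Norm sQ1 h) : pt h 0 < 5 := by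
  by_contra hp
  have h2 := allLong_spec q1Fix_ok (pt_lt h (q := 0) (by norm_num))
  simp only [Bool.or_eq_true, Nat.blt_eq, hp, false_or, List.any_eq_true, Bool.not_eq_true'] at h2
  obtain ⟨g, hg, hne⟩ := h2
  have hconj : h * el g * h⁻¹ ∈ sQ1 := norm_back hh (mem_wSub hg)
  have := q1_fix hconj (p := 0) (by norm_num)
  rw [pt_mul, pt_mul] at this
  have e := congrArg (pt h) this
  rw [pt_cancel', pt_el' (q1G_letOK g hg) (pt_lt h (by norm_num))] at e
  rw [e] at hne
  simp at hne

theorem mem_p1_iff {h : H0} : h ∈ sP1 ↔ pt h 0 < 5 := by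
  refine ⟨fun hh => pt_lt_five hh, fun hh => ?_⟩
  obtain ⟨j, -, b, hb, rfl⟩ := p1_cases hh
  exact norm_mul (norm_q1_kword (rep_kLets j)) (norm_q1_b hb)

theorem b_le_p1 : sB ≤ sP1 := fun _ hx => norm_q1_b hx

theorem repE_mem_p1 (j : ℕ) : repE j ∈ sP1 := norm_q1_kword (rep_kLets j)

theorem neg_spec {i : ℕ} (hi : i < 5) :
    ¬ Norm sU (repE (i + 1))⁻¹ ∧ ¬ Norm sQ2 (repE (i + 1))⁻¹ := by
  have h := small_ok
  simp only [smallCheck, Bool.and_eq_true] at h
  have hU := allBelow_spec h.1.2 hi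
  have hQ := allBelow_spec h.2 hi
  simp only [Bool.and_eq_true, List.any_eq_true, Nat.beq_eq, Bool.not_eq_true', List.any_eq_false] at hU hQ
  obtain ⟨⟨a, ha, ea⟩, hU⟩ := hU
  obtain ⟨⟨c, hc, ec⟩, hQ⟩ := hQ
  have hlet : allBelow (fun i => letOK (repR.getD (Nat.add i 1) [] ++ uG.getD (negU.getD i (0, 0)).1 [] ++
        invL (repR.getD (Nat.add i 1) [])) && letOK (repR.getD (Nat.add i 1) [] ++ q2G.getD (negQ.getD i (0, 0)).1 [] ++
        invL (repR.getD (Nat.add i 1) []))) 5 = true := by decide +kernel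
  have hl := allBelow_spec hlet hi
  simp only [Bool.and_eq_true] at hl
  have hconj : ∀ g : List ℕ, el (repR.getD (Nat.add i 1) [] ++ g ++ invL (repR.getD (Nat.add i 1) [])) =
      ((repE (i + 1))⁻¹)⁻¹ * el g * (repE (i + 1))⁻¹ := fun g => by
    rw [el_append, el_append, el_invL, inv_inv]; rfl
  have hgetU : el (uG.getD (negU.getD i (0, 0)).1 []) ∈ sU := by
    rw [show uG.getD (negU.getD i (0, 0)).1 [] = expW uG [(negU.getD i (0, 0)).1] by simp [expW]]
    exact el_expW_mem _
  have hgetQ : el (q2G.getD (negQ.getD i (0, 0)).1 []) ∈ sQ2 := by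
    rw [show q2G.getD (negQ.getD i (0, 0)).1 [] = expW q2G [(negQ.getD i (0, 0)).1] by simp [expW]]
    exact el_expW_mem _
  constructor
  · intro hn
    have hm := (u_maps (hn _ hgetU) (p := (negU.getD i (0, 0)).2)).2 (ea ▸ ha)
    rw [← hconj, pt_el' hl.1 (small_lt _ (ea ▸ ha))] at hm
    exact hU _ hm (by simp)
  · intro hn
    have hm := (q2_maps (hn _ hgetQ) (ec ▸ hc : (negQ.getD i (0, 0)).2 ∈ small_q)).2
    rw [← hconj, pt_el' hl.2 (small_lt _ (ec ▸ hc))] at hm
    rw [hm] at hQ
    simp at hQ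

theorem norm_b0_q2 {b : H0} (hb : b ∈ sB) : Norm sQ2 b := norm_q2_sP2 (b_le_p2 hb)

/-- Counting distinct entries. -/
theorem nubN_le {l : List ℕ} {F : Finset ℕ} (h : ∀ x ∈ l, x ∈ F) : (nubN l).length ≤ F.card := by
  have key : (nubN l).Nodup ∧ ∀ x ∈ nubN l, x ∈ l := by
    clear h
    induction l with
    | nil => simp [nubN]
    | cons x l ih =>
      show (insN x (nubN l)).Nodup ∧ ∀ y ∈ insN x (nubN l), y ∈ x :: l
      unfold insN
      cases hb : (nubN l).any (fun y => Nat.beq y x) with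
      | true => exact ⟨ih.1, fun y hy => List.mem_cons_of_mem _ (ih.2 y hy)⟩
      | false =>
        refine ⟨List.nodup_cons.2 ⟨fun hx => ?_, ih.1⟩, fun y hy => ?_⟩
        · rw [List.any_eq_false] at hb
          exact hb x hx (Nat.beq_eq.mpr rfl)
        · rcases List.mem_cons.1 hy with rfl | hy
          exacts [List.mem_cons_self, List.mem_cons_of_mem _ (ih.2 y hy)]
  rw [← List.toFinset_card_of_nodup key.1]
  exact Finset.card_le_card fun x hx => h x (key.2 x (List.mem_toFinset.1 hx))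

theorem small_of_norm {S : Subgroup H0} {W : List (List ℕ)} {L : List ℕ} (hW : ∀ w ∈ W, el w ∈ S ∧ letOK w = true)
    (hS : ∀ s ∈ S, pt s 0 < 5) (hsix : ∀ p < 19530, sixAt W L p = true ∨ sixAt (W.take 8) L p = true)
    {n : H0} (hn : ∀ s ∈ S, n * s * n⁻¹ ∈ S) : pt n 0 ∈ L := by
  have hp := pt_lt n (q := 0) (by norm_num)
  have himg : ∀ w ∈ W, actW w (pt n 0) ∈ (Finset.range 5).image (pt n) := fun w hw => by
    rw [← pt_el' (hW w hw).2 hp, ← pt_mul]
    refine Finset.mem_image.2 ⟨pt (n * el w * n⁻¹) 0, Finset.mem_range.2 (hS _ (hn _ (hW w hw).1)), ?_⟩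
    rw [← pt_mul, inv_mul_cancel_right]
  have key : ∀ W' : List (List ℕ), (∀ w ∈ W', w ∈ W) → sixAt W' L (pt n 0) = true → pt n 0 ∈ L := by
    intro W' hW' h
    simp only [sixAt, Bool.or_eq_true, List.any_eq_true, Nat.beq_eq, Nat.blt_eq] at h
    rcases h with ⟨y, hy, rfl⟩ | h
    · exact hy
    · exfalso
      have hc := nubN_le (l := W'.map fun w => actW w (pt n 0)) (F := (Finset.range 5).image (pt n))
        (fun x hx => by obtain ⟨w, hw, rfl⟩ := List.mem_map.1 hx; exact himg w (hW' w hw))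
      have := hc.trans (Finset.card_image_le)
      rw [Finset.card_range] at this
      omega
  rcases hsix _ hp with h | h
  exacts [key _ (fun _ hw => hw) h, key _ (fun _ hw => List.mem_of_mem_take hw) h]

theorem six_u_mem : ∀ w ∈ six_u, el w ∈ sU ∧ letOK w = true := by
  intro w hw
  refine ⟨wv_mem _ fun l hl => ?_, by revert w hw; decide +kernel⟩
  have hl' : [2 * (l / 2)] ∈ uG := by
    have : ∀ w ∈ six_u, ∀ l ∈ w, [2 * (l / 2)] ∈ uG := by decide +kernel
    exact this w hw l hl
  have := mem_wSub hl'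
  simpa [sU, el, wv, lt', Nat.mul_div_cancel_left] using this

theorem six_q_mem : ∀ w ∈ six_q, el w ∈ sQ2 ∧ letOK w = true := by
  intro w hw
  refine ⟨?_, by revert w hw; decide +kernel⟩
  have : ∀ w ∈ six_q, ∃ a < 6, ∃ b < 6, ∃ c < 6, w = expW q2G [a, b, c] := by decide +kernel
  obtain ⟨a, -, b, -, c, -, e⟩ := this w hw
  rw [e]
  exact el_expW_mem _

theorem mem_b_of_norm_u {n : H0} (hn : Norm sU n) : n ∈ sB := by
  have h0 : pt n 0 ∈ small_u := small_of_norm six_u_mem
    (fun s hs => (u_maps hs).1 (by norm_num : 0 < 5)) (fun p hp => sixU_ok hp) (fun s hs => norm_back hn hs)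
  have h5 : pt n 0 < 5 := by
    rw [small_spec.1] at h0
    simp only [List.mem_cons, List.not_mem_nil, or_false] at h0
    omega
  obtain ⟨j, hj, b, hb, rfl⟩ := p1_cases h5
  rcases j with _ | i
  · rw [repE, show repR.getD 0 [] = [] from rfl]; simpa using hb
  · exfalso
    refine (neg_spec (i := i) (by omega)).1 (norm_inv ?_)
    have := norm_mul hn (norm_inv (norm_u_b hb))
    simpa using this

theorem mem_p2_of_norm_q2 {n : H0} (hn : Norm sQ2 n) : n ∈ sP2 := by
  have h0 : pt n 0 ∈ small_q := small_of_norm six_q_mem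
    (fun s hs => (u_maps (q2_le_u hs)).1 (by norm_num : 0 < 5)) (fun p hp => sixQ_ok hp)
    (fun s hs => norm_back hn hs)
  obtain ⟨i, hi, e⟩ := List.getElem_of_mem h0
  obtain ⟨hm, hml⟩ := small_spec.2.2.1 i hi
  rw [List.getD_eq_getElem _ _ hi, e] at hm
  set x := el (expW p2G (moveQ.getD i [])) with hx
  have hx2 : x ∈ sP2 := el_expW_mem _
  have hk : pt (n * x⁻¹) 0 = 0 := by
    rw [pt_mul, ← hm, ← pt_el' hml (by norm_num), pt_cancel]
  obtain ⟨j, hj, b, hb, e'⟩ := k_cases hk
  have hnorm : Norm sQ2 (n * x⁻¹) := norm_mul hn (norm_inv (norm_q2_sP2 hx2))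
  rcases j with _ | k
  · rw [repE, show repR.getD 0 [] = [] from rfl] at e'
    have : n = b * x := by
      rw [← inv_mul_cancel_right n x, e']; simp
    rw [this]
    exact sP2.mul_mem (b_le_p2 (b0_le_b hb)) hx2
  · exfalso
    refine (neg_spec (i := k) (by omega)).2 (norm_inv ?_)
    rw [e'] at hnorm
    have := norm_mul hnorm (norm_inv (norm_b0_q2 (b0_le_b hb)))
    simpa using this

theorem gen_rep {i j : ℕ} (hi : i < 6) (hi0 : i ≠ 0) (hj : j < 6) {M : Subgroup H0} (hB : sB ≤ M)
    (h : repE i ∈ M) : repE j ∈ M := by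
  have h1 := allBelow_spec gen_ok hi
  simp only [Bool.or_eq_true, Nat.beq_eq, hi0, false_or] at h1
  rw [repE, eq_of_sameW (allBelow_spec h1 hj), el_append]
  refine M.mul_mem ((wSub_le fun w hw => ?_ : wSub (bG ++ [repR.getD i []]) ≤ M) (el_expW_mem _))
    (hB (el_expW_mem _))
  rcases List.mem_append.1 hw with h' | h'
  · exact hB (mem_wSub h')
  · rw [List.mem_singleton.1 h']; exact h

theorem p1_le_of_rep {i : ℕ} (hi : i < 6) (hi0 : i ≠ 0) {M : Subgroup H0} (hB : sB ≤ M) (h : repE i ∈ M) :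
    sP1 ≤ M := fun y hy => by
  obtain ⟨j, hj, b, hb, rfl⟩ := p1_cases (mem_p1_iff.1 hy)
  exact M.mul_mem (gen_rep hi hi0 hj hB h) (hB hb)

theorem top_le {M : Subgroup H0} (h1 : sP1 ≤ M) (h2 : sP2 ≤ M) : M = ⊤ := by
  have hk : ∀ l ∈ kLets, el [l] ∈ M := fun l hl => h1 (norm_q1_letter
    (List.mem_append_left _ (List.mem_map.2 ⟨l, hl, rfl⟩)))
  have h2b : el [2] ∈ M := h2 (b_le_p2 (mem_wSub (by decide +kernel)))
  have he : el [8] ∈ M := h2 (mem_wSub (by decide +kernel))
  have hgen : ∀ i < 11, i ≠ 3 → gen0 i ∈ M := by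
    intro i hi h3
    have e : el [2 * i] = gen0 i := by simp [el, wv, lt', Nat.mul_div_cancel_left]
    interval_cases i
    all_goals first
      | exact absurd rfl h3
      | exact e ▸ h2b
      | exact e ▸ he
      | exact e ▸ hk _ (by decide)
  rw [eq_top_iff, ← closure_gen0, Subgroup.closure_le]
  rintro _ ⟨i, hi, rfl⟩
  by_cases h3 : i = 3
  · subst h3
    have h := hGen_ok
    simp only [Bool.and_eq_true, List.all_eq_true, Bool.not_eq_true'] at h
    have e : el [6] = gen0 3 := by simp [el, wv, lt']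
    rw [← e, eq_of_sameW h.1]
    refine wv_mem _ fun l hl => hgen _ ?_ ?_
    · revert l hl; decide +kernel
    · exact Nat.ne_of_beq_eq_false (h.2 l hl)
  · exact hgen i hi h3

end

end Cfsg.Agent.LyonsOut
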