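import Cfsg.Agent.Lib.LyonsOut.Local
import Cfsg.Agent.Lib.Lyons.Simple
import Cfsg.Prelude.Def_KGroupFacts
import Cfsg.Agent.Lib.MathieuOut.Congr
import Cfsg.Agent.S2121

/-!
Given its order, every automorphism of the Lyons group is inner: it may be taken to fix a Sylow 5-subgroup, then
both parabolic subgroups of `G₂(5)` containing it, hence `⟨a, b, c, d⟩` pointwise, and then `z`.
-/

set_option autoImplicit false
set_option maxRecDepth 100000
set_option linter.style.haveILetI false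

namespace Cfsg.Agent.LyonsOut

open Cfsg.Agent.CosetCert Cfsg.Agent.Lyons

noncomputable section

/-- A subgroup of the small group, in the Lyons group. -/
abbrev up (S : Subgroup H0) : Subgroup LyG := S.map psiLy

theorem getD_mem (gs : List (List ℕ)) (i : ℕ) : el (gs.getD i []) ∈ wSub gs := by
  simpa [expW] using el_expW_mem (gs := gs) [i]

theorem conj_word {w : List ℕ} (h : ∀ l ∈ w, l ∈ kLets) :
    zLy⁻¹ * psiLy (el w) * zLy = psiLy (el (sigW FactData.data w)) := conj_sigW dRules_ly h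

theorem q1_kword : ∀ g ∈ q1G, ∀ l ∈ g, l ∈ kLets := by decide +kernel

theorem aK_spec {i : ℕ} (hi : i < aG.length) :
    (∀ l ∈ aK.getD i [], l ∈ kLets) ∧ el (aK.getD i []) = el (aG.getD i []) ∧
      el (invL (repR.getD 2 []) ++ sigW FactData.data (aK.getD i []) ++ repR.getD 2 []) ∈ sA := by
  have h := zNorm_ok
  simp only [zNormCheck, Bool.and_eq_true] at h
  have h2 := allBelow_spec h.2 hi
  simp only [Bool.and_eq_true] at h2
  exact ⟨inKLets_spec h2.1.1, eq_of_sameW h2.1.2, mem_of_memC h2.2⟩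

theorem norm_z : Norm (up sQ1) zLy := by
  have h := zNorm_ok
  simp only [zNormCheck, Bool.and_eq_true] at h
  rintro _ ⟨y, hy, rfl⟩
  have : sQ1 ≤ ((up sQ1).comap (MulAut.conj zLy⁻¹).toMonoidHom).comap psiLy := wSub_le fun w hw => by
    show (MulAut.conj zLy⁻¹) (psiLy (el w)) ∈ up sQ1
    rw [MulAut.conj_apply, inv_inv, conj_word (q1_kword w hw)]
    exact ⟨_, sub_spec h.1.2 (List.mem_map.2 ⟨w, hw, rfl⟩), rfl⟩
  simpa [MulAut.conj_apply] using this hy

theorem norm_n_a : Norm (up sA) (zLy * psiLy (repE 2)) := by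
  rintro _ ⟨y, hy, rfl⟩
  have : sA ≤ ((up sA).comap (MulAut.conj (zLy * psiLy (repE 2))⁻¹).toMonoidHom).comap psiLy :=
    wSub_le fun w hw => by
      obtain ⟨i, hi, rfl⟩ := List.getElem_of_mem hw
      obtain ⟨h1, h2, h3⟩ := aK_spec hi
      rw [List.getD_eq_getElem _ _ hi] at h2
      show (MulAut.conj (zLy * psiLy (repE 2))⁻¹) (psiLy (el aG[i])) ∈ up sA
      refine ⟨_, h3, ?_⟩
      rw [← h2, el_append, el_append, el_invL, map_mul, map_mul, map_inv, ← conj_word h1]
      simp [MulAut.conj_apply, repE, mul_assoc]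
  simpa [MulAut.conj_apply, mul_assoc] using this hy

theorem bad_spec {j : ℕ} (hj : j ∈ [1, 3, 4, 5]) :
    ∃ b ∈ sB, ∃ i < 6, i ≠ 0 ∧ ∃ b' ∈ sB,
      (zLy * psiLy (repE j) * psiLy b) * (zLy * psiLy (repE j)) = psiLy (repE i * b') := by
  have h := bad_ok
  simp only [badCheck, Bool.and_eq_true, decide_eq_true_eq, List.all_eq_true, Bool.not_eq_true', Nat.blt_eq] at h
  obtain ⟨⟨hmap, hall⟩, -⟩ := h
  rw [← hmap] at hj
  obtain ⟨e, he, rfl⟩ := List.mem_map.1 hj
  obtain ⟨⟨⟨hi0, hi⟩, hk⟩, hmem⟩ := hall e he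
  refine ⟨el (expW b0G e.2.1), b0_le_b (el_expW_mem _), e.2.2.1, hi, Nat.ne_of_beq_eq_false hi0,
    _, mem_of_memC hmem, ?_⟩
  have hz := conj_word (inKLets_spec hk)
  rw [el_append, map_mul] at hz
  rw [el_append, el_append, el_invL, el_append]
  simp only [map_mul, map_inv, repE, ← hz, ← zz_ly]
  group

theorem bad_three : ∃ b₁ ∈ sB, ∃ b₂ ∈ sB, ∃ i < 6, i ≠ 0 ∧ ∃ b' ∈ sB,
    zLy * psiLy b₁ * (zLy * psiLy b₂) * zLy = psiLy (repE i * b') := by
  have h := bad_ok
  simp only [badCheck, Bool.and_eq_true] at h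
  obtain ⟨-, h⟩ := h
  cases hr : runMoves FactData.data 95 badMoves ⟨[], 0, [], []⟩ with
  | none => simp [hr] at h
  | some s =>
    simp only [hr, Bool.and_eq_true, Bool.not_eq_true', Nat.blt_eq, Nat.beq_eq] at h
    obtain ⟨⟨⟨⟨hk, hi0⟩, hi⟩, hW⟩, hmem⟩ := h
    refine ⟨_, el_expW_mem badThree.1, _, el_expW_mem badThree.2.1, _, hi, Nat.ne_of_beq_eq_false hi0, _,
      mem_of_memC hmem, ?_⟩
    have key := runMoves_sound dRules_ly (fun k hk => holds_all dRules_ly k hk) badMoves hr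
      (base := 1) (by simp [DSt.val, xLy, itemsV])
    rw [DSt.val, hk, show xLy 0 = 1 from rfl, mul_one, one_mul, itemsV_eq_of_itemsEq hW, ← map_mul, ← el_append] at key
    rw [el_append (invL _), el_invL, show el (repR.getD badThree.2.2.1 []) = repE badThree.2.2.1 from rfl,
      mul_inv_cancel_left, key]
    simp [itemsV, headW, itemV, mul_assoc]

variable (hcard : Nat.card LyG = ordLy)

include hcard

theorem card_up (S : Subgroup H0) : Nat.card (up S) = Nat.card S :=
  (Nat.card_congr (S.equivMapOfInjective psiLy (psiLy_injective hcard)).toEquiv).symm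

theorem mem_up {S : Subgroup H0} {h : H0} : psiLy h ∈ up S ↔ h ∈ S :=
  Subgroup.mem_map_iff_mem (psiLy_injective hcard)

theorem orbit_stab (k : Fin 4) {q : CosLy} (hk : q ∈ MulAction.orbit H0 (cosLy (k + 1))) :
    subSize k * Nat.card (MulAction.stabilizer H0 q) = 5859000000 := by
  have horb : Nat.card (MulAction.orbit H0 q) * Nat.card (MulAction.stabilizer H0 q) = Nat.card H0 := by
    rw [← Nat.card_prod]
    exact Nat.card_congr (MulAction.orbitProdStabilizerEquivGroup _ _)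
  rwa [MulAction.orbit_eq_iff.2 hk, orbit_cos_eq hcard k, card_H0] at horb

theorem stab_one : MulAction.stabilizer H0 (cosLy 1) = subK := by
  refine (Subgroup.eq_of_le_of_card_ge (fun c hc => ?_) ?_).symm
  · obtain ⟨c', e⟩ := conj_subK dRules_ly hc
    show psiLy c • ((xLy 1 : LyG) : CosLy) = ((xLy 1 : LyG) : CosLy)
    rw [MulAction.Quotient.smul_mk, QuotientGroup.eq, smul_eq_mul]
    refine ⟨c'⁻¹, ?_⟩
    rw [map_inv, e, show xLy 1 = zLy from rfl]
    group
  · have h := orbit_stab hcard 0 (MulAction.mem_orbit_self (cosLy ((0 : Fin 4) + 1)))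
    rw [show subSize 0 = 19530 from rfl] at h
    have := card_subK
    show Nat.card (MulAction.stabilizer H0 (cosLy ((0 : Fin 4) + 1))) ≤ _
    omega

theorem fixed_cases {S : Subgroup H0} (hS : 5 ^ 5 ∣ Nat.card S) {q : CosLy} (hq : ∀ s ∈ S, s • q = q) :
    q = baseLy ∨ ∃ h : H0, q = h • cosLy 1 ∧ ∀ s ∈ S, pt s (pt h⁻¹ 0) = pt h⁻¹ 0 := by
  rcases cos_cases q with h | ⟨k, hk⟩
  · exact Or.inl h
  refine Or.inr ?_
  have hle : S ≤ MulAction.stabilizer H0 q := fun u hu => MulAction.mem_stabilizer_iff.2 (hq u hu)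
  obtain ⟨c, hc⟩ := hS.trans (Subgroup.card_dvd_of_le hle)
  have horb := orbit_stab hcard k hk
  rw [hc] at horb
  fin_cases k
  swap; · simp [subSize] at horb; omega
  swap; · simp [subSize] at horb; omega
  swap; · simp [subSize] at horb; omega
  obtain ⟨h, rfl⟩ := hk
  refine ⟨h, rfl, fun s hs => ?_⟩
  have hst : h⁻¹ * s * h ∈ MulAction.stabilizer H0 (cosLy 1) := by
    rw [MulAction.mem_stabilizer_iff, mul_smul, mul_smul, inv_smul_eq_iff]
    exact hq s hs
  rw [stab_one hcard, subK_eq] at hst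
  have e : pt h (pt s (pt h⁻¹ 0)) = 0 := by rw [← pt_mul, ← pt_mul, ← mul_assoc]; exact hst
  calc pt s (pt h⁻¹ 0) = pt h⁻¹ (pt h (pt s (pt h⁻¹ 0))) := (pt_cancel _ _).symm
    _ = pt h⁻¹ 0 := by rw [e]

theorem same_coset {g h : H0} (e : pt g⁻¹ 0 = pt h⁻¹ 0) : g • cosLy 1 = h • cosLy 1 := by
  have hm : h⁻¹ * g ∈ MulAction.stabilizer H0 (cosLy 1) := by
    rw [stab_one hcard, subK_eq]
    show pt (h⁻¹ * g) 0 = 0
    rw [pt_mul, ← e, pt_cancel']
  rw [MulAction.mem_stabilizer_iff, mul_smul, inv_smul_eq_iff] at hm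
  exact hm

omit hcard in
theorem fix_of_norm {S : Subgroup H0} {g : LyG} (hg : Norm (up S) g) {s : H0} (hs : s ∈ S) :
    s • ((g : LyG) : CosLy) = (g : CosLy) := by
  show psiLy s • ((g : LyG) : CosLy) = _
  rw [MulAction.Quotient.smul_mk, QuotientGroup.eq, smul_eq_mul]
  obtain ⟨w, -, e⟩ := hg _ ⟨s, hs, rfl⟩
  refine ⟨w⁻¹, ?_⟩
  rw [map_inv, e]
  group

omit hcard in
theorem mem_range_of_base {g : LyG} (h : ((g : LyG) : CosLy) = baseLy) : g ∈ psiLy.range := by
  have := QuotientGroup.eq.1 h.symm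
  simpa using this

theorem norm_u_cases {g : LyG} (hg : Norm (up sU) g) : g ∈ up sB := by
  obtain ⟨n, rfl⟩ := mem_range_of_base (eq_base_of_fix hcard (U := sU) (by rw [card_u])
    fun s hs => fix_of_norm hg hs)
  exact ⟨n, mem_b_of_norm_u (norm_of_map (psiLy_injective hcard) hg), rfl⟩

theorem norm_q2_cases {g : LyG} (hg : Norm (up sQ2) g) : g ∈ up sP2 := by
  rcases fixed_cases hcard (S := sQ2) (by rw [card_q2]) (fun s hs => fix_of_norm hg hs) with h | ⟨h, -, hfix⟩
  · obtain ⟨n, rfl⟩ := mem_range_of_base h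
    exact ⟨n, mem_p2_of_norm_q2 (norm_of_map (psiLy_injective hcard) hg), rfl⟩
  · exfalso
    have hp := pt_lt h⁻¹ (q := 0) (by norm_num)
    have h2 := allLong_spec q2Fix_ok hp
    simp only [List.any_eq_true, Bool.not_eq_true'] at h2
    obtain ⟨w, hw, hne⟩ := h2
    have := hfix _ (mem_wSub hw)
    rw [pt_el' (q2G_letOK w hw).1 hp] at this
    rw [this] at hne
    simp at hne

theorem norm_q1_cases {g : LyG} (hg : Norm (up sQ1) g) :
    g ∈ up sP1 ∨ ∃ b ∈ sB, ∃ h ∈ sP1, g = psiLy b * zLy * psiLy h := by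
  rcases fixed_cases hcard (S := sQ1) (by rw [card_q1]) (fun s hs => fix_of_norm hg hs) with h | ⟨h, he, hfix⟩
  · obtain ⟨n, rfl⟩ := mem_range_of_base h
    exact Or.inl ⟨n, norm_of_map (psiLy_injective hcard) hg, rfl⟩
  refine Or.inr ?_
  have hp := pt_lt h⁻¹ (q := 0) (by norm_num)
  have h5 : pt h⁻¹ 0 < 5 := by
    by_contra h5
    have h2 := allLong_spec q1Fix_ok hp
    simp only [Bool.or_eq_true, Nat.blt_eq, h5, false_or, List.any_eq_true, Bool.not_eq_true'] at h2
    obtain ⟨w, hw, hne⟩ := h2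
    have := hfix _ (mem_wSub hw)
    rw [pt_el' (q1G_letOK w hw) hp] at this
    rw [this] at hne
    simp at hne
  obtain ⟨-, -, -, hb⟩ := small_spec
  set w := powW [2] (moveB.getD (pt h⁻¹ 0) 0) with hw
  have hwok : letOK w = true := by
    have : allBelow (fun p => letOK (powW [2] (moveB.getD p 0))) 5 = true := by decide +kernel
    exact allBelow_spec this h5
  set b := (el w)⁻¹ with hbdef
  have hbB : b ∈ sB := by
    rw [hbdef, hw, el_powW]
    exact inv_mem (pow_mem (mem_wSub (by decide +kernel)) _)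
  have e : g • baseLy = b • cosLy 1 := by
    rw [show g • baseLy = ((g : LyG) : CosLy) by simp [baseLy, MulAction.Quotient.smul_mk], he]
    exact same_coset hcard (by rw [hbdef, inv_inv, pt_el' hwok (by norm_num), hw, hb _ h5])
  rw [show g • baseLy = ((g : LyG) : CosLy) by simp [baseLy, MulAction.Quotient.smul_mk]] at e
  have e2 : ((psiLy b * zLy : LyG) : CosLy) = (g : CosLy) := by rw [e]; rfl
  obtain ⟨n, hn⟩ := QuotientGroup.eq.1 e2
  have hg' : g = psiLy b * zLy * psiLy n := by rw [hn]; group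
  refine ⟨b, hbB, n, norm_of_map (psiLy_injective hcard) ?_, hg'⟩
  rw [hn]
  haveI : Finite (up sQ1) := inferInstance
  exact norm_mul (norm_inv (norm_mul (norm_map (norm_q1_b hbB)) norm_z)) hg

/-! ### The image of the subgroup of index 8835156 -/

omit hcard in
theorem aut_norm (α : MulAut LyG) {S : Subgroup LyG} {g : LyG} :
    Norm (S.map α.toMonoidHom) (α g) ↔ Norm S g :=
  ⟨norm_of_map α.injective, norm_map⟩

omit hcard in
theorem aut_pull (α : MulAut LyG) {S T : Subgroup LyG} (h : S.map α.toMonoidHom = T) (g : LyG) :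
    Norm T g ↔ Norm S (α.symm g) := by
  rw [← h, ← aut_norm α (S := S) (g := α.symm g), MulEquiv.apply_symm_apply]

theorem exists_sylow_fix (α : MulAut LyG) :
    ∃ g : LyG, (up sU).map (MulAut.conj g * α).toMonoidHom = up sU := by
  haveI : Fact (Nat.Prime 5) := ⟨by norm_num⟩
  have hf : (Nat.card LyG).factorization 5 = 6 := by
    rw [hcard, show ordLy = 5 ^ 6 * 3312971456256 by norm_num [ordLy],
      Nat.factorization_mul (by norm_num) (by norm_num), Nat.Prime.factorization_pow (by norm_num),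
      Finsupp.add_apply, Finsupp.single_eq_same, Nat.factorization_eq_zero_of_not_dvd (by norm_num), add_zero]
  have h1 : Nat.card (up sU) = 5 ^ (Nat.card LyG).factorization 5 := by rw [card_up hcard, card_u, hf]
  have h2 : Nat.card ((up sU).map α.toMonoidHom) = 5 ^ (Nat.card LyG).factorization 5 := by
    rw [← h1]
    exact (Nat.card_congr ((up sU).equivMapOfInjective _ α.injective).toEquiv).symm
  obtain ⟨g, hg⟩ := MulAction.exists_smul_eq LyG (Sylow.ofCard _ h2) (Sylow.ofCard _ h1)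
  refine ⟨g, ?_⟩
  have h3 : (((g • Sylow.ofCard _ h2 : Sylow 5 LyG)) : Subgroup LyG) =
      ((up sU).map α.toMonoidHom).map (MulAut.conj g).toMonoidHom := rfl
  rw [hg] at h3
  rw [Subgroup.map_map] at h3
  exact h3.symm

omit hcard in
theorem phi_comm {S : Subgroup H0} {Q : Subgroup H0} (hQ : ∀ x ∈ S, ∀ y ∈ S, x⁻¹ * y⁻¹ * x * y ∈ Q)
    {xs : List (ℕ × ℕ)} (hS : sU ≤ S) :
    el (xs.flatMap fun p => cmW (uG.getD p.1 []) (uG.getD p.2 [])) ∈ Q := by
  induction xs with
  | nil => exact Q.one_mem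
  | cons p l ih =>
    rw [List.flatMap_cons, el_append]
    refine Q.mul_mem ?_ ih
    rw [cmW, el_append, el_append, el_append, el_invL, el_invL]
    exact hQ _ (hS (getD_mem uG p.1)) _ (hS (getD_mem uG p.2))

omit hcard in
theorem index_five_cases {Q : Subgroup H0} (hle : Q ≤ sU) (hc : Nat.card Q = 5 ^ 5)
    (hU : ∀ u ∈ sU, Norm Q u) (ht : Norm Q (el tG)) : Q = sQ1 ∨ Q = sQ2 := by
  haveI : Fact (Nat.Prime 5) := ⟨by norm_num⟩
  haveI hN : (Q.subgroupOf sU).Normal := ⟨fun a ha u => norm_back (hU _ u.2) ha⟩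
  set π := QuotientGroup.mk' (Q.subgroupOf sU) with hπ
  have hq : Nat.card (↥sU ⧸ Q.subgroupOf sU) = 5 := by
    have h := Subgroup.card_mul_index (Q.subgroupOf sU)
    rw [Nat.card_congr (Subgroup.subgroupOfEquivOfLe hle).toEquiv, hc, card_u, Subgroup.index_eq_card] at h
    omega
  have hcyc := isCyclic_of_prime_card hq
  have hcomm : ∀ x y : ↥sU ⧸ Q.subgroupOf sU, x * y = y * x := fun x y => by
    obtain ⟨g, hg⟩ := hcyc.exists_generator
    obtain ⟨a, rfl⟩ := hg x
    obtain ⟨b, rfl⟩ := hg y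
    simp only [← zpow_add, add_comm]
  have hker : ∀ u : sU, π u = 1 ↔ (u : H0) ∈ Q := fun u => QuotientGroup.eq_one_iff u
  have hder : ∀ x ∈ sU, ∀ y ∈ sU, x⁻¹ * y⁻¹ * x * y ∈ Q := fun x hx y hy => by
    refine (hker ((⟨x, hx⟩ : sU)⁻¹ * (⟨y, hy⟩ : sU)⁻¹ * ⟨x, hx⟩ * ⟨y, hy⟩)).1 ?_
    rw [map_mul, map_mul, map_mul, map_inv, map_inv, hcomm (π ⟨x, hx⟩)⁻¹ (π ⟨y, hy⟩)⁻¹]
    group
  have he := eigen_ok
  simp only [eigenCheck, Bool.and_eq_true, Bool.not_eq_true', Nat.blt_eq] at he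
  obtain ⟨⟨⟨⟨⟨⟨⟨hph, htph⟩, htb⟩, htc⟩, hne⟩, hlb⟩, hlc⟩, -⟩ := he
  have hPQ : wSub phG ≤ Q := wSub_le fun w hw => by
    obtain ⟨i, hi, rfl⟩ := List.getElem_of_mem hw
    have e := allBelow_spec hph hi
    rw [List.getD_eq_getElem _ _ hi] at e
    rw [eq_of_sameW e]
    exact phi_comm hder le_rfl
  have hcPU : el cP ∈ sU := q1_le_u cP_mem
  set B := π ⟨el [2], el_two_mem⟩ with hB
  set C := π ⟨el cP, hcPU⟩ with hC
  by_cases hb : el [2] ∈ Q
  · refine Or.inr (Subgroup.eq_of_le_of_card_ge (wSub_le fun w hw => ?_) (by rw [hc]; exact card_q2.ge)).symm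
    rcases List.mem_cons.1 (show w ∈ [2] :: phG from hw) with rfl | h
    exacts [hb, hPQ (mem_wSub h)]
  refine Or.inl (Subgroup.eq_of_le_of_card_ge ?_ (by rw [hc, card_q1])).symm
  have hB1 : B ≠ 1 := fun h => hb ((hker _).1 h)
  have hordB : orderOf B = 5 := by
    refine ((Nat.dvd_prime (by norm_num)).1 (hq ▸ orderOf_dvd_natCard B)).resolve_left fun h => hB1 ?_
    exact orderOf_eq_one_iff.1 h
  have hgen : Subgroup.zpowers B = ⊤ := Subgroup.eq_top_of_card_eq _ (by rw [Nat.card_zpowers, hordB, hq])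
  obtain ⟨k, hk⟩ := (hgen ▸ Subgroup.mem_top C : C ∈ Subgroup.zpowers B)
  have hk : B ^ k = C := hk
  have hy : el cP * ((el [2]) ^ k)⁻¹ ∈ Q :=
    (hker (⟨el cP, hcPU⟩ * ((⟨el [2], el_two_mem⟩ : sU) ^ k)⁻¹)).1 (by
      rw [map_mul, map_inv, map_zpow, ← hB, ← hC, hk, mul_inv_cancel])
  have hconj : (el tG)⁻¹ * (el cP * ((el [2]) ^ k)⁻¹) * el tG ∈ Q := ht _ hy
  have cb : (el tG)⁻¹ * el [2] * el tG = el (expW phG lamB.2) * el [2] ^ lamB.1 := by
    rw [← el_conjW, eq_of_sameW htb, el_append, el_powW]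
  have cc : (el tG)⁻¹ * el cP * el tG = el (expW phG lamC.2) * el cP ^ lamC.1 := by
    rw [← el_conjW, eq_of_sameW htc, el_append, el_powW]
  rw [show (el tG)⁻¹ * (el cP * ((el [2]) ^ k)⁻¹) * el tG =
      ((el tG)⁻¹ * el cP * el tG) * (((el tG)⁻¹ * el [2] * el tG) ^ k)⁻¹ by
    rw [show (el tG)⁻¹ * el [2] * el tG = MulAut.conj (el tG)⁻¹ (el [2]) by simp [MulAut.conj_apply],
      ← map_zpow, ← map_inv, MulAut.conj_apply, inv_inv]
    group, cb, cc] at hconj
  have hφB : el (expW phG lamB.2) ∈ sU := hle (hPQ (el_expW_mem _))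
  have hφC : el (expW phG lamC.2) ∈ sU := hle (hPQ (el_expW_mem _))
  have e1 := (hker ((⟨_, hφC⟩ * (⟨el cP, hcPU⟩ : sU) ^ lamC.1) *
    ((⟨_, hφB⟩ * (⟨el [2], el_two_mem⟩ : sU) ^ lamB.1) ^ k)⁻¹)).2 hconj
  simp only [map_mul, map_inv, map_zpow, map_pow, ← hB, ← hC,
    (hker ⟨_, hφB⟩).2 (hPQ (el_expW_mem _)), (hker ⟨_, hφC⟩).2 (hPQ (el_expW_mem _)), one_mul, ← hk] at e1
  rw [← zpow_natCast, ← zpow_natCast, ← zpow_mul, ← zpow_mul, ← zpow_neg, ← zpow_add,
    ← orderOf_dvd_iff_zpow_eq_one, hordB] at e1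
  have hdk : ((5 : ℕ) : ℤ) ∣ k := by
    have hdiv : ((5 : ℕ) : ℤ) ∣ k * ((lamC.1 : ℤ) - lamB.1) := by
      convert e1 using 1
      ring
    rcases (Int.prime_iff_natAbs_prime.2 (by norm_num : Nat.Prime ((5 : ℕ) : ℤ).natAbs)).dvd_or_dvd hdiv with h | h
    · exact h
    · exfalso
      have h' := Nat.ne_of_beq_eq_false hne
      rw [show Nat.mod lamB.1 5 = lamB.1 % 5 from rfl, show Nat.mod lamC.1 5 = lamC.1 % 5 from rfl] at h'
      omega
  have hC1 : C = 1 := by
    rw [← hk, ← orderOf_dvd_iff_zpow_eq_one, hordB]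
    exact hdk
  have hcQ : el cP ∈ Q := (hker _).1 hC1
  rw [← sC_five]
  refine wSub_le fun w hw => ?_
  have : w ∈ phG ∨ w = cP := by
    revert w hw
    decide +kernel
  rcases this with h | rfl
  exacts [hPQ (mem_wSub h), hcQ]

omit hcard in
theorem q1_comm : ∀ x ∈ sQ1, ∀ y ∈ sQ1, x⁻¹ * y⁻¹ * x * y ∈ Subgroup.zpowers (el wC) := by
  have h := comm_ok
  simp only [commCheck, Bool.and_eq_true] at h
  obtain ⟨-, hall⟩ := h
  set W := Subgroup.zpowers (el wC) with hW
  have hcen : ∀ y ∈ sQ1, ∀ w ∈ W, w * y = y * w := by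
    intro y hy w hw
    obtain ⟨m, rfl⟩ := Subgroup.mem_zpowers_iff.1 hw
    have hc : Commute (el wC) y := by
      have : sQ1 ≤ Subgroup.centralizer {el wC} := wSub_le fun v hv => by
        obtain ⟨i, hi, rfl⟩ := List.getElem_of_mem hv
        have e := allBelow_spec hall hi
        simp only [Bool.and_eq_true] at e
        rw [Subgroup.mem_centralizer_singleton_iff]
        have := eq_of_sameW e.1
        rw [el_append, el_append, List.getD_eq_getElem _ _ hi] at this
        exact this.symm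
      exact (Subgroup.mem_centralizer_singleton_iff.1 (this hy)).symm
    exact hc.zpow_left m
  have hgens : ∀ u ∈ q1G, ∀ v ∈ q1G, (el u)⁻¹ * (el v)⁻¹ * el u * el v ∈ W := by
    intro u hu v hv
    obtain ⟨i, hi, rfl⟩ := List.getElem_of_mem hu
    obtain ⟨j, hj, rfl⟩ := List.getElem_of_mem hv
    have e := allBelow_spec hall hi
    simp only [Bool.and_eq_true] at e
    have e2 := mem_of_memC (allBelow_spec e.2 hj)
    rw [el_append, el_append, el_append, el_invL, el_invL, List.getD_eq_getElem _ _ hi,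
      List.getD_eq_getElem _ _ hj] at e2
    refine (wSub_le (S := W) (fun w hw => ?_)) e2
    rw [List.mem_singleton.1 hw]; exact Subgroup.mem_zpowers _
  have hsym : ∀ x y : H0, x⁻¹ * y⁻¹ * x * y ∈ W → y⁻¹ * x⁻¹ * y * x ∈ W := fun x y h => by
    have := inv_mem h
    rwa [show (x⁻¹ * y⁻¹ * x * y)⁻¹ = y⁻¹ * x⁻¹ * y * x by group] at this
  have step : ∀ v ∈ sQ1, (∀ u ∈ q1G, (el u)⁻¹ * v⁻¹ * el u * v ∈ W) →
      ∀ x ∈ sQ1, x⁻¹ * v⁻¹ * x * v ∈ W := by
    intro v _ hv x hx
    induction hx using Subgroup.closure_induction with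
    | mem y hy => obtain ⟨u, hu, rfl⟩ := hy; exact hv u hu
    | one => simp
    | mul a b ha hb iha ihb =>
      rw [show (a * b)⁻¹ * v⁻¹ * (a * b) * v = b⁻¹ * (a⁻¹ * v⁻¹ * a * v) * b * (b⁻¹ * v⁻¹ * b * v) by group]
      refine mul_mem ?_ ihb
      rw [mul_assoc b⁻¹, hcen b hb _ iha, inv_mul_cancel_left]
      exact iha
    | inv a ha iha =>
      rw [show (a⁻¹)⁻¹ * v⁻¹ * a⁻¹ * v = a * (a⁻¹ * v⁻¹ * a * v)⁻¹ * a⁻¹ by group,
        ← hcen a ha _ (inv_mem iha), mul_inv_cancel_right]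
      exact inv_mem iha
  intro x hx y hy
  refine step y hy (fun u hu => ?_) x hx
  refine hsym _ _ ?_
  exact step (el u) (mem_wSub hu) (fun v hv => hgens v hv u hu) y hy

theorem q1_ne_q2 (β : MulAut LyG) : (up sQ1).map β.toMonoidHom ≠ up sQ2 := by
  intro e
  have h2 := comm2_ok
  simp only [comm2Check, Bool.and_eq_true] at h2
  obtain ⟨⟨-, hne1⟩, hpow⟩ := h2
  have h := comm_ok
  simp only [commCheck, Bool.and_eq_true] at h
  obtain ⟨⟨⟨-, hw5⟩, -⟩, -⟩ := h
  set w := β (psiLy (el wC)) with hw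
  have h5 : w ^ 5 = 1 := by rw [hw, ← map_pow, ← map_pow, ← el_powW, eq_of_sameW hw5]; simp
  have hcomm : ∀ x y, psiLy (el (cmW (q2G.getD x []) (q2G.getD y []))) ∈ Subgroup.zpowers w := by
    intro x y
    have hx : psiLy (el (q2G.getD x [])) ∈ up sQ2 := ⟨_, getD_mem q2G x, rfl⟩
    have hy : psiLy (el (q2G.getD y [])) ∈ up sQ2 := ⟨_, getD_mem q2G y, rfl⟩
    rw [← e] at hx hy
    obtain ⟨_, ⟨a, ha, rfl⟩, ea⟩ := hx
    obtain ⟨_, ⟨b, hb, rfl⟩, eb⟩ := hy
    obtain ⟨m, hm⟩ := Subgroup.mem_zpowers_iff.1 (q1_comm a ha b hb)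
    refine Subgroup.mem_zpowers_iff.2 ⟨m, ?_⟩
    rw [cmW, el_append, el_append, el_append, el_invL, el_invL]
    simp only [map_mul, map_inv]
    rw [← ea, ← eb, hw, ← map_zpow, ← map_zpow, hm]
    simp
  set c₁ := psiLy (el (cmW (q2G.getD q2Comm.1.1 []) (q2G.getD q2Comm.1.2 [])))
  set c₂ := psiLy (el (cmW (q2G.getD q2Comm.2.1 []) (q2G.getD q2Comm.2.2 [])))
  have hc1 : c₁ ≠ 1 := fun h1 => el_ne_of_neqW hne1 (psiLy_injective hcard (h1.trans (by simp)))
  have hz : Nat.card (Subgroup.zpowers w) ∣ 5 := Nat.card_zpowers w ▸ orderOf_dvd_of_pow_eq_one h5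
  have heq : Subgroup.zpowers c₁ = Subgroup.zpowers w := by
    have hle : Subgroup.zpowers c₁ ≤ Subgroup.zpowers w := Subgroup.zpowers_le.2 (hcomm _ _)
    refine Subgroup.eq_of_le_of_card_ge hle (Nat.le_of_dvd Nat.card_pos (hz.trans ?_))
    have hd : Nat.card (Subgroup.zpowers c₁) ∣ 5 := (Subgroup.card_dvd_of_le hle).trans hz
    rcases (Nat.dvd_prime (by norm_num)).1 hd with h1 | h1
    · exact absurd (Subgroup.zpowers_eq_bot.1 (Subgroup.card_eq_one.1 h1)) hc1
    · rw [h1]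
  have hmem := hcomm q2Comm.2.1 q2Comm.2.2
  rw [← heq] at hmem
  obtain ⟨m, hm⟩ := (mem_powers_iff_mem_zpowers).2 hmem
  have hm : c₁ ^ m = c₂ := hm
  have hc5 : c₁ ^ 5 = 1 := by
    have : Nat.card (Subgroup.zpowers c₁) ∣ 5 := heq ▸ hz
    rw [Nat.card_zpowers] at this
    exact orderOf_dvd_iff_pow_eq_one.1 this
  have hlt : m % 5 < 5 := Nat.mod_lt _ (by norm_num)
  refine el_ne_of_neqW (allBelow_spec hpow hlt) (psiLy_injective hcard ?_)
  rw [el_powW, map_pow]
  show c₁ ^ (m % 5) = c₂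
  rw [← hm]
  conv_rhs => rw [← Nat.mod_add_div m 5, pow_add, pow_mul, hc5, one_pow, mul_one]

theorem fix_range (β : MulAut LyG) (hβ : (up sU).map β.toMonoidHom = up sU) :
    psiLy.range.map β.toMonoidHom = psiLy.range := by
  have hfin : ∀ S : Subgroup LyG, Finite S := fun _ => inferInstance
  have hB : ∀ {g : LyG}, g ∈ up sB → Norm (up sU) g := by
    rintro _ ⟨x, hx, rfl⟩; exact norm_map (norm_u_b hx)
  have hBpre : ∀ {g : LyG}, g ∈ up sB → β.symm g ∈ up sB := fun hg =>
    norm_u_cases hcard ((aut_pull β hβ _).1 (hB hg))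
  -- the two radicals
  have hQ : ∀ Q : Subgroup H0, Q ≤ sU → Nat.card Q = 5 ^ 5 → (∀ x ∈ sB, Norm Q x) →
      (up Q).map β.toMonoidHom = up sQ1 ∨ (up Q).map β.toMonoidHom = up sQ2 := by
    intro Q hle hc hn
    set Q' := ((up Q).map β.toMonoidHom).comap psiLy with hQ'
    have hsub : (up Q).map β.toMonoidHom ≤ up sU := hβ ▸ Subgroup.map_mono (Subgroup.map_mono hle)
    have hup : up Q' = (up Q).map β.toMonoidHom :=
      Subgroup.map_comap_eq_self (hsub.trans (Subgroup.map_le_range _ _))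
    have hle' : Q' ≤ sU := fun x hx => (mem_up hcard).1 (hsub hx)
    have hc' : Nat.card Q' = 5 ^ 5 := by
      rw [← card_up hcard Q', hup, Nat.card_congr ((up Q).equivMapOfInjective _ β.injective).toEquiv.symm,
        card_up hcard Q, hc]
    have hn' : ∀ x ∈ sB, Norm Q' x := fun x hx => norm_of_map (psiLy_injective hcard) (by
      show Norm (up Q') _
      rw [hup]
      obtain ⟨y, hy, e⟩ := hBpre (g := psiLy x) ⟨x, hx, rfl⟩
      rw [aut_pull β rfl, ← e]
      exact norm_map (hn y hy))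
    rcases index_five_cases hle' hc'
      (fun u hu => hn' u ((wSub_le fun w hw => mem_wSub (List.mem_append_left _ hw) : sU ≤ sB) hu))
      (hn' _ (mem_wSub (List.mem_append_right _ (lists_spec.2.2.2.2.2)))) with h | h
    · exact Or.inl (by rw [← hup, h])
    · exact Or.inr (by rw [← hup, h])
  have h1 : (up sQ1).map β.toMonoidHom = up sQ1 :=
    (hQ sQ1 q1_le_u card_q1 fun _ hx => norm_q1_b hx).resolve_right (q1_ne_q2 hcard β)
  have h2 : (up sQ2).map β.toMonoidHom = up sQ2 := by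
    refine (hQ sQ2 q2_le_u card_q2 fun _ hx => norm_b0_q2 hx).resolve_left fun e => ?_
    have e' := Subgroup.map_injective β.injective (e.trans h1.symm)
    have e2 := Subgroup.map_injective (psiLy_injective hcard) e'
    exact two_not_q1 (e2 ▸ mem_wSub (by decide +kernel))
  set M := (up sP1).map β.toMonoidHom with hM
  have hBM : ∀ {x : H0}, x ∈ sB → psiLy x ∈ M := fun {x} hx =>
    ⟨β.symm (psiLy x), Subgroup.map_mono (f := psiLy) b_le_p1 (hBpre ⟨x, hx, rfl⟩), by simp⟩
  have hMn : ∀ m ∈ M, Norm (up sQ1) m := by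
    rintro _ ⟨_, ⟨x, hx, rfl⟩, rfl⟩
    rw [← h1]
    exact (aut_norm β).2 (norm_map hx)
  have hP2 : (up sP2).map β.toMonoidHom = up sP2 := by
    refine le_antisymm ?_ fun g hg => ⟨β.symm g, norm_q2_cases hcard ?_, by simp⟩
    · rintro _ ⟨_, ⟨x, hx, rfl⟩, rfl⟩
      refine norm_q2_cases hcard ?_
      rw [← h2]
      exact (aut_norm β).2 (norm_map (norm_q2_sP2 hx))
    · obtain ⟨x, hx, rfl⟩ := hg
      exact (aut_pull β h2 _).1 (norm_map (norm_q2_sP2 hx))
  -- the whole image is generated by the two images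
  have hgen : ∀ T : Subgroup LyG, M ≤ T → up sP2 ≤ T → psiLy.range.map β.toMonoidHom ≤ T := by
    intro T hMT hPT
    have htop := top_le (M := (T.comap β.toMonoidHom).comap psiLy)
      (fun x hx => hMT ⟨_, ⟨x, hx, rfl⟩, rfl⟩)
      (fun x hx => hPT (hP2 ▸ ⟨_, ⟨x, hx, rfl⟩, rfl⟩))
    rintro _ ⟨_, ⟨x, rfl⟩, rfl⟩
    exact (htop ▸ Subgroup.mem_top x : x ∈ (T.comap β.toMonoidHom).comap psiLy)
  have hcardR : Nat.card (psiLy.range.map β.toMonoidHom) = Nat.card psiLy.range :=
    (Nat.card_congr (psiLy.range.equivMapOfInjective _ β.injective).toEquiv).symm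
  by_cases hMH : M ≤ psiLy.range
  · exact Subgroup.eq_of_le_of_card_ge (hgen _ hMH (Subgroup.map_le_range _ _)) hcardR.ge
  exfalso
  -- otherwise the image normalises the subgroup of order 125
  have hnot : ∀ i < 6, i ≠ 0 → psiLy (repE i) ∉ M := by
    intro i hi hi0 hmem
    have hle : sP1 ≤ M.comap psiLy := p1_le_of_rep hi hi0 (fun x hx => hBM hx) hmem
    have : up sP1 ≤ M := Subgroup.map_le_iff_le_comap.2 hle
    have e : up sP1 = M := Subgroup.eq_of_le_of_card_ge this
      (Nat.card_congr ((up sP1).equivMapOfInjective _ β.injective).toEquiv).symm.le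
    exact hMH (e ▸ Subgroup.map_le_range _ _)
  have hz : ∀ j < 6, zLy * psiLy (repE j) ∈ M → j = 2 := by
    intro j hj hm
    by_contra hne
    have hrep : ∀ i, i < 6 → i ≠ 0 → ∀ b' ∈ sB, psiLy (repE i * b') ∈ M → False := by
      intro i hi hi0 b' hb' h
      rw [map_mul] at h
      exact hnot i hi hi0 ((M.mul_mem_cancel_right (hBM hb')).1 h)
    have bad : ∀ {j : ℕ}, zLy * psiLy (repE j) ∈ M → j ∈ [1, 3, 4, 5] → False := by
      intro j hm hj'
      obtain ⟨b, hb, i, hi, hi0, b', hb', e⟩ := bad_spec hj'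
      exact hrep i hi hi0 b' hb' (e ▸ M.mul_mem (M.mul_mem hm (hBM hb)) hm)
    interval_cases j
    · obtain ⟨b₁, hb₁, b₂, hb₂, i, hi, hi0, b', hb', e⟩ := bad_three
      rw [show psiLy (repE 0) = 1 by rw [repE, show repR.getD 0 [] = [] from rfl]; simp, mul_one] at hm
      exact hrep i hi hi0 b' hb' (e ▸ M.mul_mem (M.mul_mem (M.mul_mem hm (hBM hb₁))
        (M.mul_mem hm (hBM hb₂))) hm)
    all_goals first
      | exact absurd rfl hne
      | exact bad hm (by decide)
  have hMA : ∀ m ∈ M, Norm (up sA) m := by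
    intro m hm
    rcases norm_q1_cases hcard (hMn m hm) with ⟨x, hx, rfl⟩ | ⟨b, hb, h, hh, rfl⟩
    · obtain ⟨j, hj, b, hb, rfl⟩ := p1_cases (mem_p1_iff.1 hx)
      rcases j with _ | i
      · rw [show repE 0 = 1 by rw [repE, show repR.getD 0 [] = [] from rfl]; simp, one_mul]
        exact norm_map (norm_a_sP2 (b_le_p2 hb))
      · rw [map_mul] at hm
        exact absurd ((M.mul_mem_cancel_right (hBM hb)).1 hm) (hnot _ hj (Nat.succ_ne_zero i))
    · obtain ⟨j, hj, b', hb', rfl⟩ := p1_cases (mem_p1_iff.1 hh)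
      rw [map_mul, mul_assoc, ← mul_assoc zLy] at hm ⊢
      have hzj := (M.mul_mem_cancel_right (hBM hb')).1 ((M.mul_mem_cancel_left (hBM hb)).1 hm)
      obtain rfl := hz j hj hzj
      exact norm_mul (norm_map (norm_a_sP2 (b_le_p2 hb)))
        (norm_mul norm_n_a (norm_map (norm_a_sP2 (b_le_p2 hb'))))
  have hnorm : psiLy.range.map β.toMonoidHom ≤ nSub (up sA) :=
    hgen _ hMA (by rintro _ ⟨x, hx, rfl⟩; exact norm_map (norm_a_sP2 hx))
  set A' := ((up sA).comap β.toMonoidHom).comap psiLy with hA'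
  have hAsub : up sA ≤ psiLy.range.map β.toMonoidHom := fun g hg => by
    have : g ∈ up sP2 := Subgroup.map_mono (f := psiLy) (fun x hx => b_le_p2
      ((wSub_le fun _ hw => mem_wSub (List.mem_append_left _ hw) : sU ≤ sB) (sC_six.le
        ((wSub_le fun w hw => mem_wSub (show w ∈ chainG.take 6 from List.mem_of_mem_take (i := 3) hw) : sA ≤ sC 6)
          hx)))) hg
    rw [← hP2] at this
    exact Subgroup.map_mono (Subgroup.map_le_range _ _) this
  haveI := isSimple_H0
  have hnormal : A'.Normal := ⟨fun a ha x => by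
    have h := norm_back (hnorm ⟨psiLy x, ⟨x, rfl⟩, rfl⟩) (show β (psiLy a) ∈ up sA from ha)
    show β (psiLy (x * a * x⁻¹)) ∈ up sA
    simpa using h⟩
  have hAne : el [16] ≠ (1 : H0) := by
    have := eigen_ok
    simp only [eigenCheck, Bool.and_eq_true] at this
    simpa using el_ne_of_neqW this.2
  rcases hnormal.eq_bot_or_eq_top with hbot | htop
  · obtain ⟨_, ⟨x, rfl⟩, e⟩ := hAsub ⟨el [16], mem_wSub (by decide +kernel), rfl⟩
    have : x ∈ A' := by
      show β (psiLy x) ∈ up sA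
      exact e ▸ ⟨el [16], mem_wSub (by decide +kernel), rfl⟩
    rw [hbot, Subgroup.mem_bot] at this
    subst this
    rw [map_one, map_one] at e
    exact hAne (psiLy_injective hcard (by rw [map_one]; exact e.symm))
  · refine hMH fun m hm => ?_
    obtain ⟨_, ⟨x, -, rfl⟩, rfl⟩ := hm
    exact Subgroup.map_le_range _ _ (htop ▸ Subgroup.mem_top x : x ∈ A')

/-! ### The last step -/

omit hcard in
theorem equiv_pt {h : H0} {w v : List ℕ} (e : el v * h = h * el w) (hw : letOK w = true) (hv : letOK v = true)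
    {p : ℕ} (hp : p < 19530) : pt h (actW v p) = actW w (pt h p) := by
  rw [← pt_el' hv hp, ← pt_el' hw (pt_lt h hp), ← pt_mul, ← pt_mul, e]

omit hcard in
theorem inOrb_move {h : H0} (hh : h ∈ subK) : ∀ {p : ℕ}, p < 19530 → inOrb p = true → inOrb (pt h p) = true := by
  have hl : ∀ l ∈ kLets, ∀ p < 19530, inOrb p = true → inOrb (pt (el [l]) p) = true := by
    intro l hl p hp ho
    have := allLong_spec orbClosed_ok hp
    simp only [Bool.or_eq_true, Bool.not_eq_true', ho, Bool.true_eq_false, false_or, List.all_eq_true] at this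
    have hok : letOK [l] = true := by revert l; decide +kernel
    rw [pt_el' hok hp, show actW [l] p = actL l p by rw [actW_cons]; rfl]
    exact this l hl
  have hone : ∀ w ∈ OrbData.kOne.ws, ∃ l, w = [l] ∧ l ∈ kLets ∧ flipL l ∈ kLets := by
    intro w hw
    have : w ∈ ([[0], [4], [10], [12], [14], [16], [18], [20]] : List (List ℕ)) := hw
    simp only [List.mem_cons, List.not_mem_nil, or_false] at this
    rcases this with rfl | rfl | rfl | rfl | rfl | rfl | rfl | rfl <;>
      exact ⟨_, rfl, by decide, by decide⟩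
  induction hh using Subgroup.closure_induction'' with
  | mem y hy =>
    obtain ⟨w, hw, rfl⟩ := hy
    obtain ⟨l, rfl, h1, -⟩ := hone w hw
    exact fun {p} hp ho => hl l h1 p hp ho
  | inv_mem y hy =>
    obtain ⟨w, hw, rfl⟩ := hy
    obtain ⟨l, rfl, -, h2⟩ := hone w hw
    intro p hp ho
    rw [← el_invL]
    exact hl _ h2 p hp ho
  | one => intro p _ ho; rwa [pt_one]
  | mul a b _ _ ha hb => intro p hp ho; rw [pt_mul]; exact hb (pt_lt a hp) (ha hp ho)

omit hcard in
theorem loop_pin {h : H0} (hh : h ∈ subK) {ws : List (List ℕ)} {t : ℕ} {p : ℕ}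
    (hat : allLong (loopAt ws t) 19530 = true) (hp : p < 19530) (ho : inOrb p = true)
    (hfix : ∀ w ∈ ws, actW w (pt h p) = pt h p) : pt h p = t := by
  have := allLong_spec hat (pt_lt h hp)
  simp only [loopAt, Bool.or_eq_true, Nat.beq_eq, Bool.not_eq_true', List.any_eq_true] at this
  rcases this with (h1 | h1) | ⟨w, hw, hne⟩
  · exact h1
  · rw [inOrb_move hh hp ho] at h1; simp at h1
  · rw [hfix w hw] at hne; simp at hne

omit hcard in
theorem kword_ok : ∀ {w : List ℕ}, (∀ l ∈ w, l ∈ kLets) → letOK w = true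
  | [], _ => rfl
  | l :: w, h => by
    have h1 : l < 22 := (by decide : ∀ l ∈ kLets, l < 22) l (h l List.mem_cons_self)
    show (Nat.blt l 22 && letOK w) = true
    simp [kword_ok fun y hy => h y (List.mem_cons_of_mem _ hy), h1]

omit hcard in
theorem sigW_ok : ∀ {w : List ℕ}, (∀ l ∈ w, l ∈ kLets) → letOK (sigW FactData.data w) = true
  | [], _ => rfl
  | l :: w, h => by
    have h1 : letOK (FactData.data.sig.get l) = true := by
      have := cent_ok
      simp only [centCheck, Bool.and_eq_true, List.all_eq_true] at this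
      exact (this.1.1.1.1.1.1.1.1.2 l (h l List.mem_cons_self)).2
    show letOK (FactData.data.sig.get l ++ sigW FactData.data w) = true
    have h2 := sigW_ok fun y hy => h y (List.mem_cons_of_mem _ hy)
    generalize FactData.data.sig.get l = u at h1 ⊢
    induction u with
    | nil => exact h2
    | cons a u ih =>
      simp only [List.cons_append]
      show (Nat.blt a 22 && letOK (u ++ _)) = true
      have h1' : (Nat.blt a 22 && letOK u) = true := h1
      simp only [Bool.and_eq_true] at h1' ⊢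
      exact ⟨h1'.1, ih h1'.2⟩

omit hcard in
theorem commute_word {h : H0} (hc : ∀ l ∈ kLets, el [l] * h = h * el [l]) :
    ∀ {w : List ℕ}, (∀ l ∈ w, l ∈ kLets) → el w * h = h * el w
  | [], _ => by simp
  | l :: w, hw => by
    rw [show l :: w = [l] ++ w from rfl, el_append, mul_assoc,
      commute_word hc fun y hy => hw y (List.mem_cons_of_mem _ hy), ← mul_assoc,
      hc l (hw l List.mem_cons_self), mul_assoc]

omit hcard in
theorem twisted_word {h : H0} (hc : ∀ l ∈ kLets, el (FactData.data.sig.get l) * h = h * el [l]) :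
    ∀ {w : List ℕ}, (∀ l ∈ w, l ∈ kLets) → el (sigW FactData.data w) * h = h * el w
  | [], _ => by simp [sigW]
  | l :: w, hw => by
    show el (FactData.data.sig.get l ++ sigW FactData.data w) * h = h * el ([l] ++ w)
    rw [el_append, el_append, mul_assoc, twisted_word hc fun y hy => hw y (List.mem_cons_of_mem _ hy), ← mul_assoc,
      hc l (hw l List.mem_cons_self), mul_assoc]

omit hcard in
theorem only_zero {p : ℕ} (hp : p < 19530) (h : ∀ l ∈ kLets, actW [l] p = p) : p = 0 := by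
  have := allLong_spec kFix_ok hp
  simp only [Bool.or_eq_true, Nat.beq_eq, List.any_eq_true, Bool.not_eq_true'] at this
  rcases this with h0 | ⟨l, hl, hne⟩
  · exact h0
  · rw [show actL l p = actW [l] p by rw [actW_cons]; rfl, h l hl] at hne; simp at hne

omit hcard in
theorem commute_trivial {h : H0} (hc : ∀ l ∈ kLets, el [l] * h = h * el [l]) : h = 1 := by
  have hk : ∀ l ∈ kLets, ∀ v ∈ [l], v ∈ kLets := fun l hl v hv => List.mem_singleton.1 hv ▸ hl
  have h0 : pt h 0 = 0 := only_zero (pt_lt h (by norm_num)) fun l hl => by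
    rw [← equiv_pt (v := [l]) (hc l hl) (kword_ok (hk l hl)) (kword_ok (hk l hl)) (by norm_num)]
    have := (by decide +kernel : ∀ l ∈ kLets, actW [l] 0 = 0) l hl
    rw [this]
  have hK : h ∈ subK := subK_eq ▸ h0
  have hcent := cent_ok
  simp only [centCheck, Bool.and_eq_true, List.all_eq_true, Nat.beq_eq] at hcent
  obtain ⟨⟨⟨⟨⟨⟨⟨⟨⟨⟨⟨⟨⟨ho1, ho2⟩, hl1⟩, hl2⟩, -⟩, -⟩, -⟩, -⟩, -⟩, -⟩, -⟩, -⟩, -⟩, -⟩ := hcent
  refine eq_one_of_fix h0 (loop_pin hK loopI1_at (by norm_num) ho1 fun w hw => ?_)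
    (loop_pin hK loopI2_at (by norm_num) ho2 fun w hw => ?_)
  · have hw' := inKLets_spec (hl1 w hw).1
    rw [← equiv_pt (commute_word hc hw') (kword_ok hw') (kword_ok hw') (by norm_num), (hl1 w hw).2]
  · have hw' := inKLets_spec (hl2 w hw).1
    rw [← equiv_pt (commute_word hc hw') (kword_ok hw') (kword_ok hw') (by norm_num), (hl2 w hw).2]

omit hcard in
theorem card_kTwo_fix : wSub OrbData.kTwo.ws = subK ⊓ fixPt 11120 := by
  have hk2 : wSub OrbData.kTwo.ws ≤ subK ⊓ fixPt 11120 := le_inf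
    (by rw [wSub, Subgroup.closure_le]; rintro _ ⟨w, hw, rfl⟩; exact kTwo_mem w hw)
    (wSub_le_fix (qs := [11120]) (by decide +kernel) (by simp))
  refine Subgroup.eq_of_le_of_card_ge hk2 ?_
  have a := orb_le kTwo_ok (S := wSub OrbData.kTwo.ws) (T := ⊥) (fun w hw => mem_wSub hw) bot_le
    (fun t ht => by rw [Subgroup.mem_bot.1 ht, pt_one])
  have b := orb_le kOne_ok (S := subK) (T := subK ⊓ fixPt 11120)
    (fun w hw => Subgroup.subset_closure ⟨w, hw, rfl⟩) inf_le_left (fun t ht => ht.2)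
  rw [show OrbData.kTwo.n = 24 from rfl, Subgroup.card_bot, mul_one] at a
  rw [show OrbData.kOne.n = 12500 from rfl] at b
  have := card_fix_le
  rw [← subK_eq] at this
  omega

omit hcard in
theorem twisted_none {h : H0} (hc : ∀ l ∈ kLets, el (FactData.data.sig.get l) * h = h * el [l]) : False := by
  have hcent := cent_ok
  simp only [centCheck, Bool.and_eq_true, List.all_eq_true, List.any_eq_true, Nat.beq_eq, Bool.not_eq_true'] at hcent
  obtain ⟨⟨⟨⟨⟨⟨⟨⟨⟨⟨⟨⟨⟨ho1, -⟩, -⟩, -⟩, hl3⟩, hsig0⟩, hs⟩, hs1⟩, hs2⟩, hg⟩, hg1⟩, ho15⟩, hnot⟩, hcl⟩ := hcent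
  have hk : ∀ l ∈ kLets, ∀ v ∈ [l], v ∈ kLets := fun l hl v hv => List.mem_singleton.1 hv ▸ hl
  have h0 : pt h 0 = 0 := only_zero (pt_lt h (by norm_num)) fun l hl => by
    rw [← equiv_pt (hc l hl) (kword_ok (hk l hl)) (hsig0 l hl).2 (by norm_num), (hsig0 l hl).1]
  have hK : h ∈ subK := subK_eq ▸ h0
  have e1 : pt h 11120 = 6383 := loop_pin hK loopS1_at (by norm_num) ho1 fun w hw => by
    have hw' := inKLets_spec (hl3 w hw).1
    rw [← equiv_pt (twisted_word hc hw') (kword_ok hw') (sigW_ok hw') (by norm_num), (hl3 w hw).2]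
  have hs' := inKLets_spec hs
  have e2 : pt h 15658 = 18959 := by
    rw [← hs1, equiv_pt (twisted_word hc hs') (kword_ok hs') (sigW_ok hs') (by norm_num), e1, hs2]
  have hg' := inKLets_spec hg
  have hinv : letOK (invL gZero) = true := by decide +kernel
  have hgK : el gZero ∈ subK := wv_mem _ fun l hl => by
    have hm : [2 * (l / 2)] ∈ OrbData.kOne.ws := by revert l hl; decide +kernel
    have := Subgroup.subset_closure (k := el '' {w | w ∈ OrbData.kOne.ws}) ⟨_, hm, rfl⟩
    simpa [el, wv, lt', Nat.mul_div_cancel_left, subK] using this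
  have ht : h * (el gZero)⁻¹ ∈ wSub OrbData.kTwo.ws := by
    rw [card_kTwo_fix]
    refine ⟨subK.mul_mem hK (inv_mem hgK), ?_⟩
    show pt (h * (el gZero)⁻¹) 11120 = 11120
    rw [pt_mul, e1, ← hg1, ← pt_el' (kword_ok hg') (by norm_num), pt_cancel]
  have key : ∀ t ∈ wSub OrbData.kTwo.ws, ∀ p ∈ orbTwo, pt t p ∈ orbTwo := by
    have hlt : ∀ p ∈ orbTwo, p < 19530 := by decide +kernel
    have hok : ∀ g ∈ OrbData.kTwo.ws, letOK g = true ∧ letOK (invL g) = true := by decide +kernel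
    intro t htm
    induction htm using Subgroup.closure_induction'' with
    | mem y hy =>
      obtain ⟨g, hg, rfl⟩ := hy
      intro p hp
      obtain ⟨⟨a, ha, ea⟩, -⟩ := hcl g hg p hp
      rw [pt_el' (hok g hg).1 (hlt p hp), ← ea]; exact ha
    | inv_mem y hy =>
      obtain ⟨g, hg, rfl⟩ := hy
      intro p hp
      obtain ⟨-, ⟨a, ha, ea⟩⟩ := hcl g hg p hp
      rw [pt_inv_el (hok g hg).2 (hlt p hp), ← ea]; exact ha
    | one => intro p hp; rwa [pt_one]
    | mul a b _ _ ha hb => intro p hp; rw [pt_mul]; exact hb _ (ha p hp)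
  obtain ⟨y, hy, rfl⟩ := ho15
  have hm := key _ ht _ hy
  rw [pt_mul, e2, pt_inv_el hinv (by norm_num)] at hm
  exact (List.any_eq_false.1 hnot) _ hm (Nat.beq_eq.mpr rfl)

theorem central_K {g : LyG} (hg : ∀ l ∈ kLets, psiLy (el [l]) * g = g * psiLy (el [l])) : g = 1 := by
  have hK : ∀ s ∈ subK, psiLy s * g = g * psiLy s := by
    intro s hs
    have hle : subK ≤ (Subgroup.centralizer {g}).comap psiLy := wSub_le fun w hw => by
      show psiLy (el w) ∈ Subgroup.centralizer {g}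
      have : w ∈ ([[0], [4], [10], [12], [14], [16], [18], [20]] : List (List ℕ)) := hw
      simp only [List.mem_cons, List.not_mem_nil, or_false] at this
      rw [Subgroup.mem_centralizer_singleton_iff]
      rcases this with rfl | rfl | rfl | rfl | rfl | rfl | rfl | rfl <;> exact hg _ (by decide)
    exact Subgroup.mem_centralizer_singleton_iff.1 (hle hs)
  have h55 : 5 ^ 5 ∣ Nat.card subK := by
    have h := card_fix_le
    rw [← subK_eq] at h
    rw [le_antisymm h card_subK]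
    norm_num
  have hfix : ∀ s ∈ subK, s • ((g : LyG) : CosLy) = (g : CosLy) := fun s hs => by
    show psiLy s • ((g : LyG) : CosLy) = _
    rw [MulAction.Quotient.smul_mk, QuotientGroup.eq, smul_eq_mul]
    refine ⟨s⁻¹, ?_⟩
    rw [map_inv, hK s hs, mul_inv_rev, mul_assoc, inv_mul_cancel, mul_one]
  rcases fixed_cases hcard h55 hfix with h | ⟨h, he, hp⟩
  · obtain ⟨n, rfl⟩ := mem_range_of_base h
    rw [commute_trivial (h := n) fun l hl => psiLy_injective hcard (by rw [map_mul, map_mul]; exact hg l hl),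
      map_one]
  · exfalso
    have hlt := pt_lt h⁻¹ (q := 0) (by norm_num)
    have h0 : pt h⁻¹ 0 = 0 := only_zero hlt fun l hl => by
      have hlk : el [l] ∈ subK := by
        rw [subK_eq]
        show pt (el [l]) 0 = 0
        rw [pt_el' (kword_ok fun v hv => List.mem_singleton.1 hv ▸ hl) (by norm_num)]
        exact (by decide +kernel : ∀ l ∈ kLets, actW [l] 0 = 0) l hl
      have := hp _ hlk
      rwa [pt_el' (kword_ok fun v hv => List.mem_singleton.1 hv ▸ hl) hlt] at this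
    rw [same_coset hcard (g := h) (h := 1) (by rw [h0, inv_one, pt_one]), one_smul] at he
    have e2 : ((zLy : LyG) : CosLy) = (g : CosLy) := he.symm
    obtain ⟨n, hn⟩ := QuotientGroup.eq.1 e2
    have hgn : g = zLy * psiLy n := by rw [hn]; group
    refine twisted_none (h := n) fun l hl => psiLy_injective hcard ?_
    rw [map_mul, map_mul, ← conj_ly l hl]
    have := hg l hl
    rw [hgn] at this
    simp only [mul_assoc] at this ⊢
    rw [this, inv_mul_cancel_left]

omit hcard in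
theorem out_H0 : Nat.card (Cfsg.Out H0) = 1 := by
  haveI : Fact (Nat.Prime 5) := ⟨by norm_num⟩
  obtain ⟨e⟩ := nonempty_H0_equiv
  rw [MathieuOut.card_out_congr e, S2121.result 5 1 (by rw [ZMod.card, pow_one]) (by norm_num)]
  rfl

theorem aut_inner (α : MulAut LyG) : α ∈ Cfsg.Inn LyG := by
  obtain ⟨g, hg⟩ := exists_sylow_fix hcard α
  set β := MulAut.conj g * α with hβ
  have hrange := fix_range hcard β hg
  let e : H0 ≃* psiLy.range := MonoidHom.ofInjective (psiLy_injective hcard)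
  let γ : MulAut H0 := e.trans (((psiLy.range.equivMapOfInjective β.toMonoidHom β.injective).trans
    (MulEquiv.subgroupCongr hrange)).trans e.symm)
  have hγ : ∀ x, psiLy (γ x) = β (psiLy x) := by
    intro x
    have h1 : ∀ y : psiLy.range, psiLy (e.symm y) = y := fun y => by
      have := congrArg Subtype.val (e.apply_symm_apply y)
      exact this
    simp only [γ, MulEquiv.trans_apply, h1]
    rfl
  haveI : Subsingleton (Cfsg.Out H0) := (Nat.card_eq_one_iff_unique.1 out_H0).1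
  obtain ⟨h, hh⟩ : γ ∈ Cfsg.Inn H0 :=
    (QuotientGroup.eq_one_iff (N := Cfsg.Inn H0) γ).1 (Subsingleton.elim _ _)
  set δ := MulAut.conj (psiLy h)⁻¹ * β with hδ
  have hfix : ∀ x, δ (psiLy x) = psiLy x := fun x => by
    rw [hδ, MulAut.mul_apply, ← hγ, ← hh, MulAut.conj_apply, MulAut.conj_apply, inv_inv, ← map_inv, ← map_mul,
      ← map_mul]
    congr 1
    group
  have hzfix : δ zLy = zLy := by
    have hc : δ zLy * zLy⁻¹ = 1 := central_K hcard fun l hl => by
      have e1 := conj_ly l hl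
      have e2 := congrArg δ e1
      rw [map_mul, map_mul, map_inv, hfix, hfix, ← e1] at e2
      rw [show psiLy (el [l]) * (δ zLy * zLy⁻¹) = δ zLy * ((δ zLy)⁻¹ * psiLy (el [l]) * δ zLy) * zLy⁻¹ by group,
        e2]
      group
    exact mul_inv_eq_one.1 hc
  have hone : δ = 1 := by
    refine MulEquiv.ext fun x => ?_
    have hle : psiLy.range ⊔ Subgroup.zpowers zLy ≤ δ.toMonoidHom.eqLocus (MonoidHom.id _) := by
      refine sup_le ?_ (Subgroup.zpowers_le.2 hzfix)
      rintro _ ⟨y, rfl⟩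
      exact hfix y
    rw [range_sup_z] at hle
    exact hle (Subgroup.mem_top x)
  rw [hδ, hβ, ← mul_assoc, ← map_mul] at hone
  refine ⟨((psiLy h)⁻¹ * g)⁻¹, ?_⟩
  rw [map_inv]
  exact inv_eq_of_mul_eq_one_right hone

/-- The outer automorphism group is trivial. -/
theorem card_out : Nat.card (Cfsg.Out LyG) = 1 := by
  refine Nat.card_eq_one_iff_unique.2 ⟨⟨fun a b => ?_⟩, ⟨1⟩⟩
  obtain ⟨x, rfl⟩ := QuotientGroup.mk_surjective a
  obtain ⟨y, rfl⟩ := QuotientGroup.mk_surjective b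
  exact QuotientGroup.eq.2 (aut_inner hcard _)

end

end Cfsg.Agent.LyonsOut
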