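import Mathlib.GroupTheory.QuotientGroup.Basic
import Mathlib.GroupTheory.SpecificGroups.Cyclic
import Mathlib.GroupTheory.Index

/-!
Small general facts: elements normalising a finite subgroup, extensions by a prime step, and subgroups of index
a prime.
-/

set_option autoImplicit false
set_option linter.style.haveILetI false

namespace Cfsg.Agent.LyonsOut

variable {G : Type*} [Group G]

/-- `g` conjugates `S` into itself. -/
def Norm (S : Subgroup G) (g : G) : Prop := ∀ y ∈ S, g⁻¹ * y * g ∈ S

theorem norm_one (S : Subgroup G) : Norm S 1 := fun y hy => by simpa using hy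

theorem norm_of_mem {S : Subgroup G} {g : G} (hg : g ∈ S) : Norm S g := fun _ hy =>
  S.mul_mem (S.mul_mem (S.inv_mem hg) hy) hg

theorem norm_mul {S : Subgroup G} {g h : G} (hg : Norm S g) (hh : Norm S h) : Norm S (g * h) := fun y hy => by
  have := hh _ (hg y hy)
  simpa [mul_assoc] using this

theorem norm_back {S : Subgroup G} [Finite S] {g : G} (hg : Norm S g) {y : G} (hy : y ∈ S) :
    g * y * g⁻¹ ∈ S := by
  let f : S → S := fun a => ⟨g⁻¹ * a * g, hg _ a.2⟩
  have hf : Function.Injective f := fun a b e => by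
    have := congrArg Subtype.val e
    simpa [f] using this
  obtain ⟨a, ha⟩ := (Finite.injective_iff_surjective.1 hf) ⟨y, hy⟩
  have : g⁻¹ * a * g = y := congrArg Subtype.val ha
  rw [← this]
  simp [mul_assoc]

theorem norm_inv {S : Subgroup G} [Finite S] {g : G} (hg : Norm S g) : Norm S g⁻¹ := fun y hy => by
  simpa using norm_back hg hy

/-- The elements normalising a finite subgroup. -/
def nSub (S : Subgroup G) [Finite S] : Subgroup G where
  carrier := {g | Norm S g}
  one_mem' := norm_one S
  mul_mem' := norm_mul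
  inv_mem' := norm_inv

theorem mem_nSub {S : Subgroup G} [Finite S] {g : G} : g ∈ nSub S ↔ Norm S g := Iff.rfl

theorem norm_map {H : Type*} [Group H] {f : G →* H} {S : Subgroup G} {g : G} (hg : Norm S g) :
    Norm (S.map f) (f g) := by
  rintro _ ⟨y, hy, rfl⟩
  exact ⟨_, hg y hy, by simp⟩

theorem norm_of_map {H : Type*} [Group H] {f : G →* H} (hf : Function.Injective f) {S : Subgroup G} {g : G}
    (hg : Norm (S.map f) (f g)) : Norm S g := fun y hy => by
  obtain ⟨w, hw, e⟩ := hg (f y) ⟨y, hy, rfl⟩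
  rw [← map_inv, ← map_mul, ← map_mul] at e
  rwa [← hf e]

theorem norm_closure {X : Set G} {g : G} (h : ∀ x ∈ X, g⁻¹ * x * g ∈ Subgroup.closure X) :
    Norm (Subgroup.closure X) g := fun y hy => by
  have : Subgroup.closure X ≤ (Subgroup.closure X).comap (MulAut.conj g⁻¹).toMonoidHom := by
    rw [Subgroup.closure_le]
    intro x hx
    simpa [MulAut.conj_apply] using h x hx
  simpa [MulAut.conj_apply] using this hy

/-- One step of a chain of prime index. -/
theorem card_step [Finite G] {S T : Subgroup G} {g : G} {p : ℕ} (hS : S ≤ T) (hg : g ∈ T)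
    (hT : T ≤ Subgroup.closure ((S : Set G) ∪ {g})) (hn : Norm S g) (hpow : g ^ p ∈ S) :
    Nat.card T ∣ p * Nat.card S := by
  haveI hN : (S.subgroupOf T).Normal := by
    refine ⟨fun a ha b => ?_⟩
    have key : Subgroup.closure ((S : Set G) ∪ {g}) ≤ nSub S := by
      rw [Subgroup.closure_le]
      rintro x (hx | rfl)
      exacts [norm_of_mem hx, hn]
    exact norm_back (key (hT b.2)) ha
  have hg' : ∀ x : ↥T ⧸ S.subgroupOf T, x ∈ Subgroup.zpowers (QuotientGroup.mk' (S.subgroupOf T) ⟨g, hg⟩) := by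
    intro x
    obtain ⟨⟨y, hy⟩, rfl⟩ := QuotientGroup.mk'_surjective (S.subgroupOf T) x
    have key : Subgroup.closure ((S : Set G) ∪ {g}) ≤
        ((Subgroup.zpowers (QuotientGroup.mk' (S.subgroupOf T) ⟨g, hg⟩)).comap
          (QuotientGroup.mk' (S.subgroupOf T))).map T.subtype := by
      rw [Subgroup.closure_le]
      rintro x (hx | hx)
      · refine ⟨⟨x, hS hx⟩, ?_, rfl⟩
        have h1 : QuotientGroup.mk' (S.subgroupOf T) ⟨x, hS hx⟩ = 1 :=
          (QuotientGroup.eq_one_iff (⟨x, hS hx⟩ : ↥T)).2 hx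
        simp only [SetLike.mem_coe, Subgroup.mem_comap, h1, one_mem]
      · obtain rfl := Set.mem_singleton_iff.1 hx
        exact ⟨⟨x, hg⟩, Subgroup.mem_zpowers _, rfl⟩
    obtain ⟨⟨w, hw⟩, hz, e⟩ := key (hT hy)
    obtain rfl : w = y := e
    exact hz
  have hord : orderOf (QuotientGroup.mk' (S.subgroupOf T) ⟨g, hg⟩) ∣ p :=
    orderOf_dvd_of_pow_eq_one (by
      rw [← map_pow]
      exact (QuotientGroup.eq_one_iff _).2 hpow)
  rw [← Nat.card_zpowers] at hord
  rw [← Subgroup.card_mul_index (S.subgroupOf T), Nat.card_congr (Subgroup.subgroupOfEquivOfLe hS).toEquiv,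
    Subgroup.index_eq_card, mul_comm p]
  refine mul_dvd_mul_left _ ?_
  rwa [(Subgroup.eq_top_iff' _).2 hg', Subgroup.card_top] at hord

end Cfsg.Agent.LyonsOut
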